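import Mathlib

/-!
# Horner partial sums are integral; valuation rings dominating a DVR (helper9)

* `isIntegral_aeval_iterate_divX`: if `P(x) = 0` then every Horner partial sum
  `b_n x^{n-m} + ... + b_m` is integral over the coefficient ring.
* `exists_unit_mul_integral`: if `W` is a valuation subring of a field `M` algebraic over the
  discrete valuation ring `B`, dominating `B`, then every `x ∈ W` can be written `x = y / s` with
  `y`, `s` integral over `B` and `s` a unit of `W`.
-/

open Polynomial

namespace Groth.Agent.Lib.Helper9.PISep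

section Horner

variable {R S : Type*} [CommRing R] [CommRing S] [Algebra R S]

theorem coeff_iterate_divX (P : R[X]) (m k : ℕ) :
    (divX^[m] P).coeff k = P.coeff (k + m) := by
  induction m generalizing P k with
  | zero => simp
  | succ m ih =>
    rw [Function.iterate_succ_apply, ih, coeff_divX]
    congr 1

theorem exists_lo (P : R[X]) (m : ℕ) :
    ∃ Lo : R[X], Lo.degree < m ∧ P = X ^ m * (divX^[m] P) + Lo := by
  induction m generalizing P with
  | zero => exact ⟨0, by simp, by simp⟩
  | succ m ih =>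
    obtain ⟨Lo, hLo, h⟩ := ih (divX P)
    refine ⟨Lo * X + C (P.coeff 0), ?_, ?_⟩
    · refine lt_of_le_of_lt (degree_add_le _ _) (max_lt ?_ ?_)
      · refine lt_of_le_of_lt (degree_mul_le _ _) ?_
        have h1 : (X : R[X]).degree ≤ 1 := degree_X_le
        have h2 : Lo.degree + (X : R[X]).degree ≤ Lo.degree + 1 := by gcongr
        refine lt_of_le_of_lt h2 ?_
        rw [Nat.cast_add, Nat.cast_one]
        exact WithBot.add_lt_add_right (by simp) hLo
      · refine lt_of_le_of_lt degree_C_le ?_
        exact_mod_cast Nat.succ_pos m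
    · rw [Function.iterate_succ_apply]
      conv_lhs => rw [← divX_mul_X_add P, h]
      ring

variable [IsDomain S]

/-- **Horner partial sums are integral.** -/
theorem isIntegral_aeval_iterate_divX (x : S) (P : R[X]) (hP : aeval x P = 0) (m : ℕ) :
    IsIntegral R (aeval x (divX^[m] P)) := by
  classical
  obtain ⟨n, hn⟩ : ∃ n, n = P.natDegree := ⟨_, rfl⟩
  obtain ⟨Lo, hLo, hdec⟩ := exists_lo P m
  obtain ⟨H, hH⟩ : ∃ H, H = divX^[m] P := ⟨_, rfl⟩
  rw [← hH] at hdec ⊢
  have hHc : ∀ k, H.coeff k = P.coeff (k + m) := fun k => by rw [hH, coeff_iterate_divX]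
  -- the submodule
  let N : Submodule R S := (degreeLT R (n + 1)).map (aeval x).toLinearMap
  have hNfg : N.FG := by
    apply Submodule.FG.map
    rw [degreeLT_eq_span_X_pow]
    exact Submodule.fg_span (Finset.finite_toSet _)
  have hN1 : (1 : S) ∈ N := by
    refine ⟨1, ?_, by simp⟩
    rw [SetLike.mem_coe, mem_degreeLT]
    refine lt_of_le_of_lt degree_one_le ?_
    exact_mod_cast Nat.succ_pos n
  have hNne : N ≠ ⊥ := by
    intro h
    rw [h, Submodule.mem_bot] at hN1
    exact one_ne_zero hN1
  have hmemN : ∀ Q : R[X], Q.degree < (n + 1 : ℕ) → aeval x Q ∈ N := fun Q hQ =>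
    ⟨Q, mem_degreeLT.mpr hQ, rfl⟩
  -- stability on the generators
  have hgen : ∀ i : ℕ, i < n + 1 → aeval x H * x ^ i ∈ N := by
    intro i hi
    by_cases him : m ≤ i
    · -- `H(x) x^i = - x^{i-m} Lo(x)`
      have h1 : aeval x H * x ^ m = - aeval x Lo := by
        have h2 := congrArg (aeval x) hdec
        rw [hP, map_add, map_mul, map_pow, aeval_X] at h2
        linear_combination -h2
      have h3 : aeval x H * x ^ i = aeval x (- (X ^ (i - m) * Lo)) := by
        rw [map_neg, map_mul, map_pow, aeval_X]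
        calc aeval x H * x ^ i = x ^ (i - m) * (aeval x H * x ^ m) := by
              rw [mul_left_comm, ← pow_add, Nat.sub_add_cancel him]
          _ = _ := by rw [h1]; ring
      rw [h3]
      apply hmemN
      rw [degree_neg, degree_lt_iff_coeff_zero]
      intro k hk
      rw [coeff_X_pow_mul']
      split_ifs with hik
      · apply coeff_eq_zero_of_degree_lt
        refine lt_of_lt_of_le hLo ?_
        exact_mod_cast (by omega : m ≤ k - (i - m))
      · rfl
    · -- `H X^i` has degree at most `n`
      push_neg at him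
      have h3 : aeval x H * x ^ i = aeval x (H * X ^ i) := by
        rw [map_mul, map_pow, aeval_X]
      rw [h3]
      apply hmemN
      rw [degree_lt_iff_coeff_zero]
      intro k hk
      rw [coeff_mul_X_pow']
      split_ifs with hik
      · rw [hHc]
        apply coeff_eq_zero_of_natDegree_lt
        omega
      · rfl
  -- stability
  have hstab : ∀ y ∈ N, aeval x H • y ∈ N := by
    have hle : N ≤ N.comap (LinearMap.mulLeft R (aeval x H)) := by
      show Submodule.map _ _ ≤ _
      rw [degreeLT_eq_span_X_pow, Submodule.map_span, Submodule.span_le]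
      rintro _ ⟨_, hq, rfl⟩
      rw [Finset.coe_image, Set.mem_image] at hq
      obtain ⟨i, hi, rfl⟩ := hq
      rw [Finset.mem_coe, Finset.mem_range] at hi
      show aeval x H * (aeval x).toLinearMap (X ^ i) ∈ N
      rw [AlgHom.toLinearMap_apply, map_pow, aeval_X]
      exact hgen i hi
    intro y hy
    exact hle hy
  exact isIntegral_of_smul_mem_submodule N hNne hNfg (aeval x H) hstab

end Horner

section Loc

open IsLocalRing

variable {B M : Type*} [CommRing B] [IsDomain B] [IsDiscreteValuationRing B] [Field M]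
  [Algebra B M]

/-- a polynomial with coefficients in the maximal ideal evaluates into the maximal ideal. -/
theorem valuation_aeval_lt_one (W : ValuationSubring M)
    (hW2 : ∀ b ∈ maximalIdeal B, W.valuation (algebraMap B M b) < 1) (x : M) (hx : x ∈ W)
    (Q : B[X]) (hQ : ∀ i, Q.coeff i ∈ maximalIdeal B) : W.valuation (aeval x Q) < 1 := by
  rw [aeval_eq_sum_range]
  apply Valuation.map_sum_lt _ one_ne_zero
  intro i _
  rw [Algebra.smul_def, map_mul, map_pow]
  have h1 : W.valuation x ^ i ≤ 1 := pow_le_one' ((W.valuation_le_one_iff x).mpr hx) i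
  exact lt_of_le_of_lt (mul_le_of_le_one_right' h1) (hW2 _ (hQ i))

theorem valuation_algebraMap_unit (W : ValuationSubring M)
    (hW1 : ∀ b : B, algebraMap B M b ∈ W) (b : B) (hb : IsUnit b) :
    W.valuation (algebraMap B M b) = 1 := by
  obtain ⟨u, rfl⟩ := hb
  have h1 : W.valuation (algebraMap B M u) ≤ 1 := (W.valuation_le_one_iff _).mpr (hW1 _)
  have h2 : W.valuation (algebraMap B M ((u⁻¹ : Bˣ) : B)) ≤ 1 :=
    (W.valuation_le_one_iff _).mpr (hW1 _)
  have h3 : W.valuation (algebraMap B M u) * W.valuation (algebraMap B M ((u⁻¹ : Bˣ) : B)) = 1 := by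
    rw [← map_mul, ← map_mul, Units.mul_inv, map_one, map_one]
  refine le_antisymm h1 ?_
  calc (1 : _) = W.valuation (algebraMap B M u) * W.valuation (algebraMap B M ((u⁻¹ : Bˣ) : B)) :=
        h3.symm
    _ ≤ W.valuation (algebraMap B M u) * 1 := mul_le_mul_right h2 _
    _ = _ := mul_one _

/-- **Elements of a valuation ring dominating a DVR are fractions of integral elements with unit
denominator.** -/
theorem exists_unit_mul_integral (halg : Algebra.IsAlgebraic B M)
    (hinj : Function.Injective (algebraMap B M)) (W : ValuationSubring M)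
    (hW1 : ∀ b : B, algebraMap B M b ∈ W)
    (hW2 : ∀ b ∈ maximalIdeal B, W.valuation (algebraMap B M b) < 1) (x : M) (hx : x ∈ W) :
    ∃ s : M, IsIntegral B s ∧ W.valuation s = 1 ∧ IsIntegral B (s * x) := by
  classical
  letI : StrongNormalizationMonoid B := UniqueFactorizationMonoid.strongNormalizationMonoid
  letI : NormalizedGCDMonoid B := UniqueFactorizationMonoid.toNormalizedGCDMonoid B
  obtain ⟨P₀, hP₀ne, hP₀⟩ := halg.isAlgebraic x
  obtain ⟨P, hP⟩ : ∃ P, P = P₀.primPart := ⟨_, rfl⟩
  have hprim : P.IsPrimitive := hP ▸ P₀.isPrimitive_primPart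
  have hPx : aeval x P = 0 := by
    have h1 : P₀ = C P₀.content * P := hP ▸ P₀.eq_C_content_mul_primPart
    have h2 := hP₀
    rw [h1, map_mul, aeval_C] at h2
    rcases mul_eq_zero.mp h2 with h3 | h3
    · exfalso
      have h4 : P₀.content = 0 := hinj (by rw [h3, map_zero])
      exact hP₀ne (content_eq_zero_iff.mp h4)
    · exact h3
  -- some coefficient is a unit
  have hunit : ∃ i, IsUnit (P.coeff i) := by
    by_contra hcon
    push_neg at hcon
    obtain ⟨ϖ, hϖ⟩ := IsDiscreteValuationRing.exists_irreducible B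
    have hdvd : C ϖ ∣ P := by
      rw [C_dvd_iff_dvd_coeff]
      intro i
      have h1 : P.coeff i ∈ maximalIdeal B := (mem_maximalIdeal _).mpr (hcon i)
      rw [hϖ.maximalIdeal_eq, Ideal.mem_span_singleton] at h1
      exact h1
    exact hϖ.not_isUnit (hprim ϖ hdvd)
  -- the largest index with a unit coefficient
  obtain ⟨U, hUdef⟩ : ∃ U : Finset ℕ, U = P.support.filter (fun i => IsUnit (P.coeff i)) :=
    ⟨_, rfl⟩
  have hmemU : ∀ i, i ∈ U ↔ IsUnit (P.coeff i) := by
    intro i
    rw [hUdef, Finset.mem_filter, mem_support_iff]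
    exact ⟨fun h => h.2, fun h => ⟨h.ne_zero, h⟩⟩
  have hUne : U.Nonempty := by
    obtain ⟨i, hi⟩ := hunit
    exact ⟨i, (hmemU i).mpr hi⟩
  obtain ⟨r, hr⟩ : ∃ r, r = U.max' hUne := ⟨_, rfl⟩
  have hrU : IsUnit (P.coeff r) := (hmemU r).mp (hr ▸ U.max'_mem hUne)
  have hgt : ∀ i, r < i → P.coeff i ∈ maximalIdeal B := by
    intro i hi
    rw [mem_maximalIdeal, mem_nonunits_iff]
    intro hu
    have h1 : i ≤ U.max' hUne := U.le_max' i ((hmemU i).mpr hu)
    omega
  obtain ⟨H, hH⟩ : ∃ H, H = divX^[r] P := ⟨_, rfl⟩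
  have hHc : ∀ k, H.coeff k = P.coeff (k + r) := fun k => by rw [hH, coeff_iterate_divX]
  obtain ⟨s, hs⟩ : ∃ s, s = aeval x H := ⟨_, rfl⟩
  have hsint : IsIntegral B s := by
    rw [hs, hH]
    exact isIntegral_aeval_iterate_divX x P hPx r
  -- `s` is a unit of `W`
  have hsdec : s = x * aeval x (divX H) + algebraMap B M (H.coeff 0) := by
    rw [hs]
    conv_lhs => rw [← X_mul_divX_add H]
    rw [map_add, map_mul, aeval_X, aeval_C]
  have hv1 : W.valuation (algebraMap B M (H.coeff 0)) = 1 := by
    rw [hHc, zero_add]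
    exact valuation_algebraMap_unit W hW1 _ hrU
  have hv2 : W.valuation (x * aeval x (divX H)) < 1 := by
    rw [map_mul]
    have h1 : W.valuation (aeval x (divX H)) < 1 := by
      apply valuation_aeval_lt_one W hW2 x hx
      intro i
      rw [coeff_divX, hHc]
      exact hgt _ (by omega)
    exact lt_of_le_of_lt (mul_le_of_le_one_left' ((W.valuation_le_one_iff x).mpr hx)) h1
  have hvs : W.valuation s = 1 := by
    rw [hsdec, Valuation.map_add_eq_of_lt_right _ (by rw [hv1]; exact hv2), hv1]
  have hs0 : s ≠ 0 := by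
    intro h
    rw [h, map_zero] at hvs
    exact zero_ne_one hvs
  refine ⟨s, hsint, hvs, ?_⟩
  -- `s x` is integral
  obtain ⟨Lo, hLo, hdec⟩ := exists_lo P r
  rw [← hH] at hdec
  obtain ⟨s', hs'⟩ : ∃ s' : integralClosure B M, (s' : M) = s := ⟨⟨s, hsint⟩, rfl⟩
  have hs'0 : s' ≠ 0 := by
    intro h
    apply hs0
    rw [← hs', h]
    rfl
  obtain ⟨Q, hQ⟩ : ∃ Q : (integralClosure B M)[X],
      Q = C s' * X ^ r + Lo.map (algebraMap B (integralClosure B M)) := ⟨_, rfl⟩
  have hQx : aeval x Q = 0 := by
    have h2 := congrArg (aeval x) hdec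
    rw [hPx, map_add, map_mul, map_pow, aeval_X] at h2
    rw [hQ, map_add, map_mul, map_pow, aeval_X, aeval_C, aeval_map_algebraMap]
    have h3 : algebraMap (integralClosure B M) M s' = s := hs'
    rw [h3, hs, h2]
    ring
  have hdeg : (Lo.map (algebraMap B (integralClosure B M))).degree < (C s' * X ^ r).degree := by
    rw [degree_C_mul_X_pow r hs'0]
    exact lt_of_le_of_lt degree_map_le hLo
  have hlead : Q.leadingCoeff = s' := by
    rw [hQ, leadingCoeff_add_of_degree_lt' hdeg, leadingCoeff_C_mul_X_pow]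
  have h4 : IsIntegral (integralClosure B M) (Q.leadingCoeff • x) :=
    isIntegral_leadingCoeff_smul Q x hQx
  rw [hlead] at h4
  have h5 : s' • x = s * x := by
    rw [← hs']
    rfl
  rw [h5] at h4
  exact isIntegral_trans _ h4

end Loc

end Groth.Agent.Lib.Helper9.PISep
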