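import Mathlib

/-!
# Recognizing a discrete valuation ring from a quotient (helper9)

If `C` is a Noetherian domain, `a ≠ 0` lies in every maximal ideal of `C`, and `C / a^s` (`s ≥ 2`)
is a quotient of a local ring `D` with principal maximal ideal `(ϖ)`, then `C` is a discrete
valuation ring whose maximal ideal is generated by any lift of the image of `ϖ`.
-/

universe u v

open IsLocalRing

namespace Groth.Agent.Lib.Helper9.PISep

theorem isDVR_of_surjective_quotient {C : Type u} {D : Type v} [CommRing C] [IsDomain C]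
    [IsNoetherianRing C] [CommRing D] [IsLocalRing D] (a : C) (ha0 : a ≠ 0)
    (hamax : ∀ 𝔪 : Ideal C, 𝔪.IsMaximal → a ∈ 𝔪) (s : ℕ) (hs : 2 ≤ s)
    (I : Ideal C) (hI : I = Ideal.span {a ^ s})
    (ρ : D →+* C ⧸ I) (hρ : Function.Surjective ρ)
    (ϖ : D) (hϖ : maximalIdeal D = Ideal.span {ϖ}) (g : C)
    (hg : Ideal.Quotient.mk I g = ρ ϖ) :
    ∃ (_ : IsLocalRing C), IsDiscreteValuationRing C ∧ maximalIdeal C = Ideal.span {g} := by
  classical
  have hIle : ∀ 𝔪 : Ideal C, 𝔪.IsMaximal → I ≤ 𝔪 := by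
    intro 𝔪 h𝔪
    rw [hI, Ideal.span_le, Set.singleton_subset_iff]
    exact 𝔪.pow_mem_of_mem (hamax 𝔪 h𝔪) s (by omega)
  have hIjac : I ≤ Ideal.jacobson ⊥ := by
    rw [Ideal.jacobson]
    exact le_sInf fun J hJ => hIle J hJ.2
  have hIne : I ≠ ⊤ := by
    obtain ⟨𝔪, h𝔪⟩ := Ideal.exists_maximal C
    intro h
    exact h𝔪.ne_top (top_le_iff.mp (h ▸ hIle 𝔪 h𝔪))
  haveI : Nontrivial (C ⧸ I) := Ideal.Quotient.nontrivial_iff.mpr hIne
  haveI hlocQ : IsLocalRing (C ⧸ I) := IsLocalRing.of_surjective' ρ hρ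
  haveI hlochom : IsLocalHom (Ideal.Quotient.mk I) := isLocalHom_of_le_jacobson_bot I hIjac
  haveI hloc : IsLocalRing C := RingHom.domain_isLocalRing (Ideal.Quotient.mk I)
  have ham : a ∈ maximalIdeal C := hamax _ (maximalIdeal.isMaximal C)
  have hgm : g ∈ maximalIdeal C := by
    rw [mem_maximalIdeal, mem_nonunits_iff]
    intro hu
    have h1 : IsUnit (ρ ϖ) := hg ▸ hu.map (Ideal.Quotient.mk I)
    have h2 : ϖ ∈ maximalIdeal D := by rw [hϖ]; exact Ideal.mem_span_singleton_self ϖ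
    obtain ⟨c, hc⟩ := hρ (↑(h1.unit⁻¹) : C ⧸ I)
    -- `ρ (ϖ * c) = 1`, so `ϖ * c - 1 ∈ ker ρ ⊆ 𝔪`
    have h3 : ρ (ϖ * c) = 1 := by rw [map_mul, hc]; exact h1.mul_val_inv
    have h4 : ϖ * c ∈ maximalIdeal D := Ideal.mul_mem_right _ _ h2
    have h5 : ¬ IsUnit (ρ (ϖ * c)) := by
      intro hu'
      -- a surjective ring hom from a local ring is local
      haveI : IsLocalHom ρ := IsLocalHom.of_surjective ρ hρ
      exact (mem_maximalIdeal _).mp h4 (isUnit_of_map_unit ρ _ hu')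
    rw [h3] at h5
    exact h5 isUnit_one
  have hsub : maximalIdeal C ≤ Ideal.span {g} ⊔ maximalIdeal C • maximalIdeal C := by
    intro x hx
    have h1 : ¬ IsUnit (Ideal.Quotient.mk I x) := fun hu =>
      (mem_maximalIdeal _).mp hx (isUnit_of_map_unit (Ideal.Quotient.mk I) x hu)
    obtain ⟨d, hd⟩ := hρ (Ideal.Quotient.mk I x)
    have hdm : d ∈ maximalIdeal D := by
      rw [mem_maximalIdeal, mem_nonunits_iff]
      intro hu
      exact h1 (hd ▸ hu.map ρ)
    rw [hϖ, Ideal.mem_span_singleton'] at hdm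
    obtain ⟨d', rfl⟩ := hdm
    obtain ⟨c, hc⟩ := Ideal.Quotient.mk_surjective (ρ d')
    have h2 : Ideal.Quotient.mk I (x - c * g) = 0 := by
      rw [map_sub, map_mul, hc, hg, ← hd, map_mul, sub_self]
    rw [Ideal.Quotient.eq_zero_iff_mem, hI, Ideal.mem_span_singleton'] at h2
    obtain ⟨r, hr⟩ := h2
    have h3 : x = c * g + r * a ^ s := by rw [hr]; ring
    rw [h3]
    refine Submodule.add_mem_sup (Ideal.mem_span_singleton'.mpr ⟨c, rfl⟩) ?_
    obtain ⟨s', rfl⟩ : ∃ s', s = s' + 2 := ⟨s - 2, by omega⟩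
    have h4 : r * a ^ (s' + 2) = (r * a ^ s' * a) * a := by ring
    rw [h4, smul_eq_mul]
    exact Ideal.mul_mem_mul (Ideal.mul_mem_left _ _ ham) ham
  have hle : maximalIdeal C ≤ Ideal.span {g} :=
    Submodule.le_of_le_smul_of_le_jacobson_bot (IsNoetherian.noetherian _)
      (IsLocalRing.maximalIdeal_le_jacobson ⊥) hsub
  have heq : maximalIdeal C = Ideal.span {g} :=
    le_antisymm hle (by rw [Ideal.span_le, Set.singleton_subset_iff]; exact hgm)
  have hnf : ¬ IsField C := by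
    intro hf
    have := (IsLocalRing.isField_iff_maximalIdeal_eq.mp hf)
    rw [this] at ham
    exact ha0 ((Ideal.mem_bot).mp ham)
  refine ⟨hloc, ?_, heq⟩
  have hprin : (maximalIdeal C).IsPrincipal := ⟨⟨g, heq⟩⟩
  exact ((IsDiscreteValuationRing.TFAE C hnf).out 0 4).mpr hprin

end Groth.Agent.Lib.Helper9.PISep
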