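import Mathlib
import Groth.Agent.Lib.Helper9.PISep.Recognize
import Groth.Agent.Lib.Helper9.AbhyankarCore

/-!
# Comparing `F(a^{1/p})` and `F[y]/(y^p - π^n y - a)` over a discrete valuation ring (helper9)

`O` is a valuation subring of `F`, `E = F(z)` with `z^p = a ∈ O`, `E'` is generated by a root `y`
of `Y^p - π^n Y - a`, and `θ : E → E'` is the `F`-linear map with `θ (z^i) = y^i` (`i < p`).
If the valuation ring `O_E` of `E` over `O` satisfies `π^t O_E ⊆ O[z]` and `n ≥ 2t + 2`, then `θ`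
maps `O_E` onto the valuation ring `O'` of `E'` over `O`, is multiplicative modulo `π^(n-2t)`, and
maps a uniformizer to a uniformizer.
-/

universe u

open Polynomial IsLocalRing

namespace Groth.Agent.Lib.Helper9.PISep

section Basic

variable {F E E' : Type u} [Field F] [Field E] [Field E'] [Algebra F E] [Algebra F E']
  (p : ℕ) (O : ValuationSubring F) (π a : F) (ha : a ∈ O)
  (z : E) (y : E') (n : ℕ) (θ : E →ₗ[F] E')

/-- evaluation of polynomials over `O` at an element of an `F`-algebra. -/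
noncomputable def ev {R : Type u} [Field R] [Algebra F R] (x : R) : (↥O)[X] →+* R :=
  eval₂RingHom ((algebraMap F R).comp O.subtype) x

theorem ev_C {R : Type u} [Field R] [Algebra F R] (x : R) (c : O) :
    ev O x (C c) = algebraMap F R (c : F) := by
  simp [ev]

theorem ev_X {R : Type u} [Field R] [Algebra F R] (x : R) : ev O x X = x := by
  simp [ev]

theorem ev_monomial {R : Type u} [Field R] [Algebra F R] (x : R) (i : ℕ) (c : O) :
    ev O x (monomial i c) = (c : F) • x ^ i := by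
  simp [ev, eval₂_monomial, Algebra.smul_def]

include θ in
/-- `θ` intertwines evaluation at `z` and at `y` on polynomials of degree `< p`. -/
theorem theta_ev (hθ : ∀ i < p, θ (z ^ i) = y ^ i) (R : (↥O)[X]) (hR : R.natDegree < p) :
    θ (ev O z R) = ev O y R := by
  rw [R.as_sum_range' p hR, map_sum, map_sum, map_sum]
  refine Finset.sum_congr rfl fun i hi => ?_
  rw [ev_monomial, ev_monomial, map_smul, hθ i (Finset.mem_range.mp hi)]

/-- the polynomial `X^p - a` over `O`. -/
noncomputable def mpoly : (↥O)[X] := X ^ p - C (⟨a, ha⟩ : O)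

theorem mpoly_monic (hp : 2 ≤ p) : (mpoly p O a ha).Monic :=
  monic_X_pow_sub_C _ (by omega)

theorem mpoly_natDegree (hp : 2 ≤ p) : (mpoly p O a ha).natDegree = p :=
  natDegree_X_pow_sub_C

theorem ev_mpoly_z (hz : z ^ p = algebraMap F E a) : ev O z (mpoly p O a ha) = 0 := by
  rw [mpoly, map_sub, map_pow, ev_X, ev_C, hz, sub_self]

theorem ev_mpoly_y (hy : y ^ p = algebraMap F E' (π ^ n) * y + algebraMap F E' a) :
    ev O y (mpoly p O a ha) = algebraMap F E' (π ^ n) * y := by
  rw [mpoly, map_sub, map_pow, ev_X, ev_C, hy, add_sub_cancel_right]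

include θ ha in
/-- **Claim A**: `θ` is multiplicative on `O[z]` up to `π^n O[y]`. -/
theorem theta_mul_ev (hp : 2 ≤ p) (hz : z ^ p = algebraMap F E a)
    (hy : y ^ p = algebraMap F E' (π ^ n) * y + algebraMap F E' a)
    (hθ : ∀ i < p, θ (z ^ i) = y ^ i) (P P' : (↥O)[X]) (hP : P.natDegree < p)
    (hP' : P'.natDegree < p) :
    ∃ Q' : (↥O)[X], Q'.natDegree < p ∧
      θ (ev O z P * ev O z P') = ev O y P * ev O y P' - algebraMap F E' (π ^ n) * ev O y Q' := by
  have hm := mpoly_monic p O a ha hp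
  have hmdeg := mpoly_natDegree p O a ha hp
  have hm1 : mpoly p O a ha ≠ 1 := by
    intro h
    have := hmdeg
    rw [h, natDegree_one] at this
    omega
  set m := mpoly p O a ha with hmdef
  set Q := (P * P') /ₘ m with hQ
  set R := (P * P') %ₘ m with hR
  have hdiv : R + m * Q = P * P' := modByMonic_add_div (P * P') m
  have hRdeg : R.natDegree < p := by
    have := natDegree_modByMonic_lt (P * P') hm hm1
    rwa [hmdeg] at this
  have hQdeg : (X * Q).natDegree < p := by
    by_cases hQ0 : Q = 0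
    · rw [hQ0, mul_zero, natDegree_zero]; omega
    have h1 : Q.natDegree = (P * P').natDegree - p := by
      rw [hQ, natDegree_divByMonic _ hm, hmdeg]
    have h2 : (P * P').natDegree ≤ P.natDegree + P'.natDegree := natDegree_mul_le
    have h3 : (X * Q).natDegree ≤ 1 + Q.natDegree := by
      refine natDegree_mul_le.trans ?_
      rw [natDegree_X]
    omega
  refine ⟨X * Q, hQdeg, ?_⟩
  have h1 : ev O z P * ev O z P' = ev O z R := by
    rw [← map_mul, ← hdiv, map_add, map_mul, ev_mpoly_z p O a ha z hz, zero_mul, add_zero]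
  have h2 : ev O y P * ev O y P' = ev O y R + algebraMap F E' (π ^ n) * y * ev O y Q := by
    rw [← map_mul, ← hdiv, map_add, map_mul, ev_mpoly_y p O π a ha y n hy]
  rw [h1, theta_ev p O z y θ hθ R hRdeg, h2, map_mul, ev_X]
  ring

end Basic

section Valuation

variable {F E E' : Type u} [Field F] [Field E] [Field E'] [Algebra F E] [Algebra F E']
  (p : ℕ) (O : ValuationSubring F) (π a : F) (ha : a ∈ O)
  (z : E) (y : E') (n : ℕ) (θ : E →ₗ[F] E')
  (OE : ValuationSubring E) (t : ℕ)

theorem mem_OE_of_mem (hOE : OE.comap (algebraMap F E) = O) {c : F} (hc : c ∈ O) :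
    algebraMap F E c ∈ OE := by
  rw [← hOE] at hc
  exact hc

include ha in
theorem z_mem (hp : 2 ≤ p) (hz : z ^ p = algebraMap F E a)
    (hOE : OE.comap (algebraMap F E) = O) : z ∈ OE := by
  apply AbhyankarCore.valuation_le_one_of_pow OE (n := p) (by omega)
  rw [hz]
  exact mem_OE_of_mem O OE hOE ha

theorem ev_mem (hOE : OE.comap (algebraMap F E) = O) (hzm : z ∈ OE) (R : (↥O)[X]) :
    ev O z R ∈ OE := by
  induction R using Polynomial.induction_on' with
  | add P Q hP hQ => rw [map_add]; exact OE.add_mem _ _ hP hQ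
  | monomial i c =>
    rw [ev_monomial, Algebra.smul_def]
    exact OE.mul_mem _ _ (mem_OE_of_mem O OE hOE c.2) (pow_mem hzm i)

include ha in
/-- `θ` is multiplicative on `O_E` modulo `π^(n - 2t)`. -/
theorem theta_mul (hp : 2 ≤ p) (hπ0 : π ≠ 0) (hz : z ^ p = algebraMap F E a)
    (hy : y ^ p = algebraMap F E' (π ^ n) * y + algebraMap F E' a)
    (hθ : ∀ i < p, θ (z ^ i) = y ^ i) (hOE : OE.comap (algebraMap F E) = O)
    (hbound : ∀ w ∈ OE, ∃ R : (↥O)[X], R.natDegree < p ∧
      algebraMap F E (π ^ t) * w = ev O z R) (h2t : 2 * t ≤ n)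
    (u v : E) (hu : u ∈ OE) (hv : v ∈ OE) :
    ∃ ε ∈ OE, θ u * θ v = θ (u * v) + algebraMap F E' (π ^ (n - 2 * t)) * θ ε := by
  obtain ⟨P, hPdeg, hP⟩ := hbound u hu
  obtain ⟨P', hP'deg, hP'⟩ := hbound v hv
  obtain ⟨Q', hQ'deg, hQ'⟩ := theta_mul_ev p O π a ha z y n θ hp hz hy hθ P P' hPdeg hP'deg
  have hzm : z ∈ OE := z_mem p O a ha z OE hp hz hOE
  refine ⟨ev O z Q', ev_mem O z OE hOE hzm Q', ?_⟩
  have e1 : θ (ev O z P * ev O z P') = algebraMap F E' (π ^ (2 * t)) * θ (u * v) := by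
    rw [← hP, ← hP']
    have : algebraMap F E (π ^ t) * u * (algebraMap F E (π ^ t) * v) =
        (π ^ (2 * t)) • (u * v) := by
      rw [Algebra.smul_def, two_mul, pow_add, map_mul]
      ring
    rw [this, map_smul, Algebra.smul_def]
  have e2 : ev O y P = algebraMap F E' (π ^ t) * θ u := by
    rw [← theta_ev p O z y θ hθ P hPdeg, ← hP, ← Algebra.smul_def, map_smul, Algebra.smul_def]
  have e3 : ev O y P' = algebraMap F E' (π ^ t) * θ v := by
    rw [← theta_ev p O z y θ hθ P' hP'deg, ← hP', ← Algebra.smul_def, map_smul, Algebra.smul_def]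
  have e4 : ev O y Q' = θ (ev O z Q') := (theta_ev p O z y θ hθ Q' hQ'deg).symm
  rw [e1, e2, e3, e4] at hQ'
  have hne : algebraMap F E' (π ^ (2 * t)) ≠ 0 := by
    rw [Ne, map_eq_zero]
    exact pow_ne_zero _ hπ0
  apply mul_left_cancel₀ hne
  have hsplit : algebraMap F E' (π ^ n) =
      algebraMap F E' (π ^ (2 * t)) * algebraMap F E' (π ^ (n - 2 * t)) := by
    rw [← map_mul, ← pow_add, Nat.add_sub_cancel' h2t]
  have h2 : algebraMap F E' (π ^ (2 * t)) = algebraMap F E' (π ^ t) * algebraMap F E' (π ^ t) := by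
    rw [← map_mul, ← pow_add, two_mul]
  rw [hsplit] at hQ'
  rw [mul_add, hQ']
  rw [h2]
  ring

end Valuation

section Ring

variable {F E E' : Type u} [Field F] [Field E] [Field E'] [Algebra F E] [Algebra F E']
  (p : ℕ) (O : ValuationSubring F) [IsDiscreteValuationRing O] (π a : F) (ha : a ∈ O)
  (z : E) (y : E') (n : ℕ) (θ : E →ₗ[F] E')
  (OE : ValuationSubring E) (t : ℕ)

include ha in
set_option maxHeartbeats 1000000 in
/-- the image `θ(O_E)` is a subalgebra of `E'`, finitely generated as a module over `O`. -/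
theorem exists_image_subalgebra (hp : 2 ≤ p) (hπ0 : π ≠ 0) (hπ : π ∈ O)
    (hz : z ^ p = algebraMap F E a)
    (hy : y ^ p = algebraMap F E' (π ^ n) * y + algebraMap F E' a)
    (hθ : ∀ i < p, θ (z ^ i) = y ^ i) (hOE : OE.comap (algebraMap F E) = O)
    (hbound : ∀ w ∈ OE, ∃ R : (↥O)[X], R.natDegree < p ∧
      algebraMap F E (π ^ t) * w = ev O z R) (h2t : 2 * t ≤ n) :
    letI : Algebra ↥O E' := ((algebraMap F E').comp O.subtype).toAlgebra
    ∃ C : Subalgebra ↥O E', (∀ x, x ∈ C ↔ ∃ w ∈ OE, θ w = x) ∧ C.toSubmodule.FG := by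
  letI algOE' : Algebra ↥O E' := ((algebraMap F E').comp O.subtype).toAlgebra
  have hθ1 : θ 1 = 1 := by
    have := hθ 0 (by omega)
    simpa using this
  have hθalg : ∀ c : F, θ (algebraMap F E c) = algebraMap F E' c := by
    intro c
    rw [Algebra.algebraMap_eq_smul_one, map_smul, hθ1, Algebra.algebraMap_eq_smul_one]
  let C : Subalgebra ↥O E' :=
    { carrier := {x | ∃ w ∈ OE, θ w = x}
      mul_mem' := by
        rintro _ _ ⟨u, hu, rfl⟩ ⟨v, hv, rfl⟩
        obtain ⟨ε, hε, h⟩ := theta_mul p O π a ha z y n θ OE t hp hπ0 hz hy hθ hOE hbound h2t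
          u v hu hv
        refine ⟨u * v + algebraMap F E (π ^ (n - 2 * t)) * ε, ?_, ?_⟩
        · exact OE.add_mem _ _ (OE.mul_mem _ _ hu hv)
            (OE.mul_mem _ _ (mem_OE_of_mem O OE hOE (pow_mem hπ _)) hε)
        · rw [map_add, h, ← Algebra.smul_def, map_smul, Algebra.smul_def]
      one_mem' := ⟨1, OE.one_mem, hθ1⟩
      add_mem' := by
        rintro _ _ ⟨u, hu, rfl⟩ ⟨v, hv, rfl⟩
        exact ⟨u + v, OE.add_mem _ _ hu hv, map_add _ _ _⟩
      zero_mem' := ⟨0, OE.zero_mem, map_zero _⟩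
      algebraMap_mem' := by
        intro c
        exact ⟨algebraMap F E (c : F), mem_OE_of_mem O OE hOE c.2, hθalg _⟩ }
  refine ⟨C, fun x => Iff.rfl, ?_⟩
  -- finite generation
  let S : Set E' := Set.range fun i : Fin p => algebraMap F E' ((π ^ t)⁻¹) * y ^ (i : ℕ)
  have hSfin : S.Finite := Set.finite_range _
  haveI : IsNoetherian ↥O (Submodule.span ↥O S) := isNoetherian_span_of_finite ↥O hSfin
  have hle : C.toSubmodule ≤ Submodule.span ↥O S := by
    rintro x ⟨w, hw, rfl⟩
    obtain ⟨R, hRdeg, hR⟩ := hbound w hw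
    have h1 : algebraMap F E' (π ^ t) * θ w = ev O y R := by
      rw [← theta_ev p O z y θ hθ R hRdeg, ← hR, ← Algebra.smul_def (π ^ t) w, map_smul,
        Algebra.smul_def]
    have hne : algebraMap F E' (π ^ t) ≠ 0 := by
      rw [Ne, map_eq_zero]; exact pow_ne_zero _ hπ0
    have h2 : θ w = ∑ i ∈ Finset.range p, (R.coeff i) •
        (algebraMap F E' ((π ^ t)⁻¹) * y ^ i) := by
      apply mul_left_cancel₀ hne
      rw [h1, Finset.mul_sum]
      conv_lhs => rw [R.as_sum_range' p hRdeg, map_sum]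
      refine Finset.sum_congr rfl fun i _ => ?_
      rw [ev_monomial, Algebra.smul_def, Algebra.smul_def]
      show _ = algebraMap F E' (π ^ t) * (algebraMap F E' ((R.coeff i : O) : F) *
        (algebraMap F E' ((π ^ t)⁻¹) * y ^ i))
      have : algebraMap F E' (π ^ t) * algebraMap F E' ((π ^ t)⁻¹) = 1 := by
        rw [← map_mul, mul_inv_cancel₀ (pow_ne_zero _ hπ0), map_one]
      calc algebraMap F E' ((R.coeff i : O) : F) * y ^ i
          = (algebraMap F E' (π ^ t) * algebraMap F E' ((π ^ t)⁻¹)) *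
            (algebraMap F E' ((R.coeff i : O) : F) * y ^ i) := by rw [this, one_mul]
        _ = _ := by ring
    rw [h2]
    refine Submodule.sum_mem _ fun i hi => Submodule.smul_mem _ _ (Submodule.subset_span ?_)
    exact ⟨⟨i, Finset.mem_range.mp hi⟩, rfl⟩
  haveI : IsNoetherian ↥O C.toSubmodule := isNoetherian_of_le hle
  exact (Submodule.fg_top _).mp (IsNoetherian.noetherian ⊤)

end Ring

section Spec

variable {F E E' : Type u} [Field F] [Field E] [Field E'] [Algebra F E] [Algebra F E']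
  (p : ℕ) (O : ValuationSubring F) [IsDiscreteValuationRing O] (π a : F) (ha : a ∈ O)
  (z : E) (y : E') (n : ℕ) (θ : E →ₗ[F] E')
  (OE : ValuationSubring E) (t : ℕ) (O' : ValuationSubring E')

include ha in
set_option maxHeartbeats 2000000 in
/-- **Main comparison**: `θ` maps `O_E` onto `O'`, and a uniformizer to a uniformizer. -/
theorem image_spec (hp : 2 ≤ p) (hπ0 : π ≠ 0) (hπ : O.valuation π < 1)
    (hz : z ^ p = algebraMap F E a)
    (hy : y ^ p = algebraMap F E' (π ^ n) * y + algebraMap F E' a)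
    (hθ : ∀ i < p, θ (z ^ i) = y ^ i) (hOE : OE.comap (algebraMap F E) = O)
    (hbound : ∀ w ∈ OE, ∃ R : (↥O)[X], R.natDegree < p ∧
      algebraMap F E (π ^ t) * w = ev O z R) (hn : 2 * t + 2 ≤ n)
    (hO' : O'.comap (algebraMap F E') = O)
    (hyspan : ∀ x : E', ∃ R : F[X], R.natDegree < p ∧ x = aeval y R)
    (ϖ : E) (hϖ : OE.valuation ϖ < 1)
    (hϖgen : ∀ w, OE.valuation w < 1 → ∃ w' ∈ OE, w = ϖ * w') :
    (∀ w ∈ OE, θ w ∈ O') ∧ (∀ x ∈ O', ∃ w ∈ OE, θ w = x) ∧ O'.valuation (θ ϖ) < 1 ∧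
      (∀ x, O'.valuation x < 1 → ∃ x' ∈ O', x = θ ϖ * x') := by
  classical
  have hπO : π ∈ O := (O.valuation_le_one_iff π).mp hπ.le
  have h2t : 2 * t ≤ n := by omega
  letI algOE' : Algebra ↥O E' := ((algebraMap F E').comp O.subtype).toAlgebra
  obtain ⟨C, hCmem, hCfg⟩ := exists_image_subalgebra p O π a ha z y n θ OE t hp hπ0 hπO hz hy hθ
    hOE hbound h2t
  haveI hCfin : Module.Finite ↥O C := Module.Finite.iff_fg.mpr hCfg
  haveI hCnoeth : IsNoetherianRing C := IsNoetherianRing.of_finite ↥O C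
  haveI hCint : Algebra.IsIntegral ↥O C := Algebra.IsIntegral.of_finite ↥O C
  have hθ1 : θ 1 = 1 := by
    have := hθ 0 (by omega)
    simpa using this
  have hθalg : ∀ c : F, θ (algebraMap F E c) = algebraMap F E' c := by
    intro c
    rw [Algebra.algebraMap_eq_smul_one, map_smul, hθ1, Algebra.algebraMap_eq_smul_one]
  have hθC : ∀ w ∈ OE, θ w ∈ C := fun w hw => (hCmem _).mpr ⟨w, hw, rfl⟩
  -- `C ⊆ O'`
  have hO'alg : ∀ c : O, algebraMap ↥O E' c ∈ O' := by
    intro c
    show algebraMap F E' (c : F) ∈ O'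
    have : (c : F) ∈ O'.comap (algebraMap F E') := by rw [hO']; exact c.2
    exact this
  have hCO' : ∀ x ∈ C, x ∈ O' := by
    intro x hx
    have h1 : IsIntegral ↥O (⟨x, hx⟩ : C) := Algebra.IsIntegral.isIntegral _
    have h2 : IsIntegral ↥O x := h1.map C.val
    exact DVRExt.mem_of_isIntegral O' hO'alg h2
  -- the element `π` in `C`
  obtain ⟨aC, haC⟩ : ∃ aC : C, (aC : E') = algebraMap F E' π :=
    ⟨⟨algebraMap F E' π, (hCmem _).mpr ⟨algebraMap F E π, mem_OE_of_mem O OE hOE hπO, hθalg π⟩⟩,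
      rfl⟩
  have haC0 : aC ≠ 0 := by
    intro h
    have := congrArg (fun c : C => (c : E')) h
    simp only [haC, ZeroMemClass.coe_zero, map_eq_zero] at this
    exact hπ0 this
  have hπmax : (⟨π, hπO⟩ : O) ∈ maximalIdeal O := by
    rw [mem_maximalIdeal, mem_nonunits_iff]
    intro hu
    have := (O.valuation_eq_one_iff _).mp hu
    exact hπ.ne this
  have hamax : ∀ 𝔪 : Ideal C, 𝔪.IsMaximal → aC ∈ 𝔪 := by
    intro 𝔪 h𝔪
    haveI := Ideal.isMaximal_comap_of_isIntegral_of_isMaximal (R := ↥O) 𝔪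
    have h1 : 𝔪.comap (algebraMap ↥O C) = maximalIdeal O := eq_maximalIdeal this
    have h2 : (⟨π, hπO⟩ : O) ∈ 𝔪.comap (algebraMap ↥O C) := by rw [h1]; exact hπmax
    have h3 : algebraMap ↥O C ⟨π, hπO⟩ = aC := Subtype.ext haC.symm
    rw [← h3]
    exact h2
  -- the ring hom `ρ`
  obtain ⟨s, hs⟩ : ∃ s, s = n - 2 * t := ⟨_, rfl⟩
  have hs2 : 2 ≤ s := by omega
  have haCs : ((aC ^ s : C) : E') = algebraMap F E' (π ^ (n - 2 * t)) := by
    rw [SubmonoidClass.coe_pow, haC, ← map_pow, hs]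
  let ρ : OE →+* C ⧸ Ideal.span {aC ^ s} :=
    { toFun := fun w => Ideal.Quotient.mk _ ⟨θ (w : E), hθC _ w.2⟩
      map_one' := by
        show Ideal.Quotient.mk _ (⟨θ ((1 : OE) : E), _⟩ : C) = 1
        rw [← map_one (Ideal.Quotient.mk (Ideal.span {aC ^ s}))]
        congr 1
        exact Subtype.ext hθ1
      map_mul' := by
        intro u v
        obtain ⟨ε, hε, h⟩ := theta_mul p O π a ha z y n θ OE t hp hπ0 hz hy hθ hOE hbound h2t
          (u : E) (v : E) u.2 v.2
        rw [← map_mul, Ideal.Quotient.eq, Ideal.mem_span_singleton']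
        refine ⟨-⟨θ ε, hθC ε hε⟩, Subtype.ext ?_⟩
        show -θ ε * ((aC ^ s : C) : E') = θ ((u : E) * (v : E)) - θ (u : E) * θ (v : E)
        rw [h, haCs]
        ring
      map_zero' := by
        show Ideal.Quotient.mk _ (⟨θ ((0 : OE) : E), _⟩ : C) = 0
        rw [← map_zero (Ideal.Quotient.mk (Ideal.span {aC ^ s}))]
        congr 1
        exact Subtype.ext (map_zero θ)
      map_add' := by
        intro u v
        rw [← map_add]
        congr 1
        exact Subtype.ext (map_add θ _ _) }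
  have hρ : Function.Surjective ρ := by
    intro q
    obtain ⟨c, rfl⟩ := Ideal.Quotient.mk_surjective q
    obtain ⟨w, hw, hwc⟩ := (hCmem _).mp c.2
    refine ⟨⟨w, hw⟩, ?_⟩
    show Ideal.Quotient.mk _ (⟨θ w, _⟩ : C) = Ideal.Quotient.mk _ c
    congr 1
    exact Subtype.ext hwc
  have hϖOE : ϖ ∈ OE := (OE.valuation_le_one_iff ϖ).mp hϖ.le
  have hmaxOE : maximalIdeal OE = Ideal.span {(⟨ϖ, hϖOE⟩ : OE)} := by
    apply le_antisymm
    · intro w hw
      have hlt : OE.valuation (w : E) < 1 := (OE.valuation_lt_one_iff _).mp hw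
      obtain ⟨w', hw', hww'⟩ := hϖgen _ hlt
      rw [Ideal.mem_span_singleton']
      exact ⟨⟨w', hw'⟩, Subtype.ext (by rw [hww']; exact mul_comm _ _)⟩
    · rw [Ideal.span_le, Set.singleton_subset_iff]
      exact (OE.valuation_lt_one_iff _).mpr hϖ
  obtain ⟨hCloc, hCdvr, hCmax⟩ := isDVR_of_surjective_quotient aC haC0 hamax s hs2
    (Ideal.span {aC ^ s}) rfl ρ hρ ⟨ϖ, hϖOE⟩ hmaxOE ⟨θ ϖ, hθC ϖ hϖOE⟩ rfl
  have hgirr : Irreducible (⟨θ ϖ, hθC ϖ hϖOE⟩ : C) :=
    (IsDiscreteValuationRing.irreducible_iff_uniformizer _).mpr hCmax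
  -- a power of `g` is a multiple of `π`
  obtain ⟨k, hk⟩ := IsDiscreteValuationRing.ideal_eq_span_pow_irreducible
    (s := Ideal.span {aC}) (by rwa [Ne, Ideal.span_singleton_eq_bot]) hgirr
  have hgk : ∃ c'' : C, (θ ϖ) ^ k = algebraMap F E' π * (c'' : E') := by
    have h1 : (⟨θ ϖ, hθC ϖ hϖOE⟩ : C) ^ k ∈ Ideal.span {aC} := by
      rw [hk]; exact Ideal.mem_span_singleton_self _
    rw [Ideal.mem_span_singleton'] at h1
    obtain ⟨c'', hc''⟩ := h1
    refine ⟨c'', ?_⟩
    have := congrArg (fun c : C => (c : E')) hc''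
    simp only [MulMemClass.coe_mul, SubmonoidClass.coe_pow, haC] at this
    rw [← this, mul_comm]
  have hπO' : O'.valuation (algebraMap F E' π) < 1 := by
    rw [← AbhyankarCore.valuation_comap_lt_one_iff, hO']
    exact hπ
  have hgO' : O'.valuation (θ ϖ) < 1 := by
    obtain ⟨c'', hc''⟩ := hgk
    have h1 : O'.valuation (θ ϖ ^ k) < 1 := by
      rw [hc'', map_mul]
      have h2 : O'.valuation (c'' : E') ≤ 1 := (O'.valuation_le_one_iff _).mpr (hCO' _ c''.2)
      calc O'.valuation (algebraMap F E' π) * O'.valuation (c'' : E')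
          ≤ O'.valuation (algebraMap F E' π) * 1 := by gcongr
        _ < 1 := by rw [mul_one]; exact hπO'
    have hk0 : k ≠ 0 := by
      rintro rfl
      rw [pow_zero, map_one] at h1
      exact lt_irrefl _ h1
    exact AbhyankarCore.valuation_lt_one_of_pow O' hk0 h1
  -- `O' ⊆ C`
  have hO'C : ∀ x ∈ O', x ∈ C := by
    intro x hx
    obtain ⟨R, hRdeg, hR⟩ := hyspan x
    obtain ⟨d, hd⟩ := IsLocalization.exist_integer_multiples_of_finset (nonZeroDivisors ↥O)
      ((Finset.range p).image fun i => R.coeff i)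
    have hd0 : ((d : O) : F) ≠ 0 := by
      have := nonZeroDivisors.ne_zero d.2
      intro h
      exact this (Subtype.ext h)
    -- `d x ∈ C`
    have hdx : algebraMap F E' ((d : O) : F) * x ∈ C := by
      choose! c hc using hd
      have hc' : ∀ i ∈ Finset.range p, ((c (R.coeff i) : O) : F) = ((d : O) : F) * R.coeff i := by
        intro i hi
        have := hc (R.coeff i) (Finset.mem_image_of_mem _ hi)
        rw [Algebra.smul_def] at this
        exact this
      let R' : (↥O)[X] := ∑ i ∈ Finset.range p, monomial i (c (R.coeff i))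
      have hR'deg : R'.natDegree < p := by
        apply lt_of_le_of_lt (natDegree_sum_le _ _)
        rw [Finset.fold_max_lt]
        refine ⟨by omega, fun i hi => ?_⟩
        exact lt_of_le_of_lt (natDegree_monomial_le _) (Finset.mem_range.mp hi)
      have h1 : ev O y R' = algebraMap F E' ((d : O) : F) * x := by
        rw [hR, map_sum]
        conv_rhs => rw [R.as_sum_range' p hRdeg, map_sum, Finset.mul_sum]
        refine Finset.sum_congr rfl fun i hi => ?_
        rw [ev_monomial, hc' i hi, aeval_monomial, Algebra.smul_def, map_mul]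
        ring
      rw [← h1, ← theta_ev p O z y θ hθ R' hR'deg]
      exact hθC _ (ev_mem O z OE hOE (z_mem p O a ha z OE hp hz hOE) R')
    obtain ⟨dC, hdC⟩ : ∃ dC : C, (dC : E') = algebraMap F E' ((d : O) : F) :=
      ⟨algebraMap ↥O C d, rfl⟩
    have hdC0 : (dC : E') ≠ 0 := by
      rw [hdC, Ne, map_eq_zero]; exact hd0
    obtain ⟨c, hc | hc⟩ := ValuationRing.cond (⟨_, hdx⟩ : C) dC
    · -- `d x c = d`
      have h1 := congrArg (fun c : C => (c : E')) hc
      simp only [MulMemClass.coe_mul, hdC] at h1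
      have h2 : x * (c : E') = 1 := by
        rw [← hdC] at h1
        apply mul_left_cancel₀ hdC0
        rw [mul_one, ← mul_assoc]
        exact h1
      by_cases hcu : IsUnit c
      · obtain ⟨u, rfl⟩ := hcu
        have h3 : x = ((u⁻¹ : Cˣ) : C) := by
          have h4 : ((u : C) : E') * (((u⁻¹ : Cˣ) : C) : E') = 1 := by
            rw [← MulMemClass.coe_mul, Units.mul_inv]; rfl
          calc x = x * (((u : C) : E') * (((u⁻¹ : Cˣ) : C) : E')) := by rw [h4, mul_one]
            _ = (x * ((u : C) : E')) * (((u⁻¹ : Cˣ) : C) : E') := by ring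
            _ = _ := by rw [h2, one_mul]
        rw [h3]
        exact ((u⁻¹ : Cˣ) : C).2
      · exfalso
        have hcm : c ∈ maximalIdeal C := hcu
        rw [hCmax, Ideal.mem_span_singleton'] at hcm
        obtain ⟨c', rfl⟩ := hcm
        have h3 : O'.valuation (x * ((c' : E') * θ ϖ)) < 1 := by
          rw [map_mul, map_mul]
          have hx1 : O'.valuation x ≤ 1 := (O'.valuation_le_one_iff _).mpr hx
          have hc1 : O'.valuation (c' : E') ≤ 1 := (O'.valuation_le_one_iff _).mpr (hCO' _ c'.2)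
          calc O'.valuation x * (O'.valuation (c' : E') * O'.valuation (θ ϖ))
              ≤ 1 * (1 * O'.valuation (θ ϖ)) := by gcongr
            _ < 1 := by rw [one_mul, one_mul]; exact hgO'
        have h4 : x * ((c' : E') * θ ϖ) = 1 := h2
        rw [h4, map_one] at h3
        exact lt_irrefl _ h3
    · -- `d c = d x`
      have h1 := congrArg (fun c : C => (c : E')) hc
      simp only [MulMemClass.coe_mul, hdC] at h1
      have h2 : x = (c : E') := by
        apply mul_left_cancel₀ hdC0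
        rw [hdC, ← h1]
      rw [h2]
      exact c.2
  refine ⟨fun w hw => hCO' _ (hθC w hw), fun x hx => (hCmem x).mp (hO'C x hx), hgO', ?_⟩
  intro x hx
  have hxO' : x ∈ O' := (O'.valuation_le_one_iff _).mp hx.le
  have hxC := hO'C x hxO'
  have hxm : (⟨x, hxC⟩ : C) ∈ maximalIdeal C := by
    rw [mem_maximalIdeal, mem_nonunits_iff]
    rintro ⟨u, hu⟩
    have h1 : x * (((u⁻¹ : Cˣ) : C) : E') = 1 := by
      have : ((u : C) : E') = x := by rw [hu]
      rw [← this, ← MulMemClass.coe_mul, Units.mul_inv]; rfl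
    have h2 : O'.valuation (x * (((u⁻¹ : Cˣ) : C) : E')) < 1 := by
      rw [map_mul]
      have hc1 : O'.valuation ((((u⁻¹ : Cˣ) : C) : E')) ≤ 1 :=
        (O'.valuation_le_one_iff _).mpr (hCO' _ ((u⁻¹ : Cˣ) : C).2)
      calc O'.valuation x * O'.valuation ((((u⁻¹ : Cˣ) : C) : E'))
          ≤ O'.valuation x * 1 := by gcongr
        _ < 1 := by rw [mul_one]; exact hx
    rw [h1, map_one] at h2
    exact lt_irrefl _ h2
  rw [hCmax, Ideal.mem_span_singleton'] at hxm
  obtain ⟨c', hc'⟩ := hxm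
  refine ⟨c', hCO' _ c'.2, ?_⟩
  have := congrArg (fun c : C => (c : E')) hc'
  simp only [MulMemClass.coe_mul] at this
  rw [← this, mul_comm]

end Spec

section Residue

variable {F E E' : Type u} [Field F] [Field E] [Field E'] [Algebra F E] [Algebra F E']
  (p : ℕ) (O : ValuationSubring F) [IsDiscreteValuationRing O] (π a : F) (ha : a ∈ O)
  (z : E) (y : E') (n : ℕ) (θ : E →ₗ[F] E')
  (OE : ValuationSubring E) (t : ℕ) (O' : ValuationSubring E')

include ha in
set_option maxHeartbeats 2000000 in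
/-- `θ` induces an isomorphism of residue fields. -/
theorem exists_residue_equiv (hp : 2 ≤ p) (hπ0 : π ≠ 0) (hπ : O.valuation π < 1)
    (hz : z ^ p = algebraMap F E a)
    (hy : y ^ p = algebraMap F E' (π ^ n) * y + algebraMap F E' a)
    (hθ : ∀ i < p, θ (z ^ i) = y ^ i) (hOE : OE.comap (algebraMap F E) = O)
    (hbound : ∀ w ∈ OE, ∃ R : (↥O)[X], R.natDegree < p ∧
      algebraMap F E (π ^ t) * w = ev O z R) (hn : 2 * t + 2 ≤ n)
    (hO' : O'.comap (algebraMap F E') = O)
    (hyspan : ∀ x : E', ∃ R : F[X], R.natDegree < p ∧ x = aeval y R)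
    (ϖ : E) (hϖ : OE.valuation ϖ < 1)
    (hϖgen : ∀ w, OE.valuation w < 1 → ∃ w' ∈ OE, w = ϖ * w') :
    ∃ e : ResidueField OE ≃+* ResidueField O', ∀ (w : E) (hw : w ∈ OE) (hw' : θ w ∈ O'),
      e (residue OE ⟨w, hw⟩) = residue O' ⟨θ w, hw'⟩ := by
  classical
  obtain ⟨h1, h2, h3, h4⟩ := image_spec p O π a ha z y n θ OE t O' hp hπ0 hπ hz hy hθ hOE hbound
    hn hO' hyspan ϖ hϖ hϖgen
  have hπO : π ∈ O := (O.valuation_le_one_iff π).mp hπ.le
  have h2t : 2 * t ≤ n := by omega
  have hθ1 : θ 1 = 1 := by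
    have := hθ 0 (by omega)
    simpa using this
  have hπO' : O'.valuation (algebraMap F E' π) < 1 := by
    rw [← AbhyankarCore.valuation_comap_lt_one_iff, hO']
    exact hπ
  have hpow : O'.valuation (algebraMap F E' (π ^ (n - 2 * t))) < 1 := by
    rw [map_pow, map_pow]
    exact pow_lt_one' hπO' (by omega)
  have hmul : ∀ (u v : E) (hu : u ∈ OE) (hv : v ∈ OE),
      residue O' ⟨θ (u * v), h1 _ (OE.mul_mem _ _ hu hv)⟩ =
        residue O' ⟨θ u, h1 _ hu⟩ * residue O' ⟨θ v, h1 _ hv⟩ := by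
    intro u v hu hv
    obtain ⟨ε, hε, h⟩ := theta_mul p O π a ha z y n θ OE t hp hπ0 hz hy hθ hOE hbound h2t
      u v hu hv
    rw [← map_mul, ← sub_eq_zero, ← map_sub, residue_eq_zero_iff, ValuationSubring.valuation_lt_one_iff]
    show O'.valuation (θ (u * v) - θ u * θ v) < 1
    rw [h]
    have : θ (u * v) - (θ (u * v) + algebraMap F E' (π ^ (n - 2 * t)) * θ ε) =
        -(algebraMap F E' (π ^ (n - 2 * t)) * θ ε) := by ring
    rw [this, Valuation.map_neg, map_mul]
    have hε1 : O'.valuation (θ ε) ≤ 1 := (O'.valuation_le_one_iff _).mpr (h1 _ hε)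
    calc O'.valuation (algebraMap F E' (π ^ (n - 2 * t))) * O'.valuation (θ ε)
        ≤ O'.valuation (algebraMap F E' (π ^ (n - 2 * t))) * 1 := by gcongr
      _ < 1 := by rw [mul_one]; exact hpow
  let r : OE →+* ResidueField O' :=
    { toFun := fun w => residue O' ⟨θ (w : E), h1 _ w.2⟩
      map_one' := by
        show residue O' ⟨θ ((1 : OE) : E), _⟩ = 1
        rw [← map_one (residue O')]
        congr 1
        exact Subtype.ext hθ1
      map_mul' := fun u v => hmul (u : E) (v : E) u.2 v.2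
      map_zero' := by
        show residue O' ⟨θ ((0 : OE) : E), _⟩ = 0
        rw [← map_zero (residue O')]
        congr 1
        exact Subtype.ext (map_zero θ)
      map_add' := by
        intro u v
        rw [← map_add]
        congr 1
        exact Subtype.ext (map_add θ _ _) }
  have hrker : ∀ w ∈ maximalIdeal OE, r w = 0 := by
    intro w hw
    have hlt : OE.valuation (w : E) < 1 := (OE.valuation_lt_one_iff _).mp hw
    obtain ⟨w', hw', hww'⟩ := hϖgen _ hlt
    have hϖOE : ϖ ∈ OE := (OE.valuation_le_one_iff ϖ).mp hϖ.le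
    have : w = ⟨ϖ, hϖOE⟩ * ⟨w', hw'⟩ := Subtype.ext hww'
    rw [this, map_mul]
    have : r ⟨ϖ, hϖOE⟩ = 0 := by
      show residue O' ⟨θ ϖ, _⟩ = 0
      rw [residue_eq_zero_iff, ValuationSubring.valuation_lt_one_iff]
      exact h3
    rw [this, zero_mul]
  let rbar : ResidueField OE →+* ResidueField O' := Ideal.Quotient.lift (maximalIdeal OE) r hrker
  have hrbar : ∀ w : OE, rbar (residue OE w) = r w := fun w => Ideal.Quotient.lift_mk _ _ _
  have hsurj : Function.Surjective rbar := by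
    intro q
    obtain ⟨x, rfl⟩ := residue_surjective q
    obtain ⟨w, hw, hwx⟩ := h2 (x : E') x.2
    refine ⟨residue OE ⟨w, hw⟩, ?_⟩
    rw [hrbar]
    show residue O' ⟨θ w, _⟩ = residue O' x
    congr 1
    exact Subtype.ext hwx
  refine ⟨RingEquiv.ofBijective rbar ⟨rbar.injective, hsurj⟩, ?_⟩
  intro w hw hw'
  show rbar (residue OE ⟨w, hw⟩) = _
  rw [hrbar]
  rfl

end Residue

end Groth.Agent.Lib.Helper9.PISep
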