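import Mathlib
import Groth.Prelude.Def_EtRam
import Groth.Agent.Lib.Helper9.PISep.Image
import Groth.Agent.Lib.Helper9.PISep.Horner
import Groth.Agent.Lib.Helper9.DVRExt

/-!
# Assembly lemmas for S7151 (helper9)
-/

universe u

open Polynomial IsLocalRing

namespace Groth.Agent.Lib.Helper9.PISep

section HBound

variable {B M₁ M₂ : Type u} [CommRing B] [IsDomain B] [IsDiscreteValuationRing B] [Field M₁]
  [Field M₂] [Algebra M₁ M₂] [Algebra B M₁]

/-- the conductor bound in the local form needed by `local_step`. -/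
theorem hbound_of_bound (p : ℕ) (hp : p.Prime) [ExpChar M₂ p]
    (halg : Algebra.IsAlgebraic B M₁) (hinj : Function.Injective (algebraMap B M₁))
    (W₁ : ValuationSubring M₁) (hW1 : ∀ b : B, algebraMap B M₁ b ∈ W₁)
    (hW2 : ∀ b ∈ maximalIdeal B, W₁.valuation (algebraMap B M₁ b) < 1)
    (W₂ : ValuationSubring M₂) (hW₂ : W₂.comap (algebraMap M₁ M₂) = W₁)
    (r : M₂) (a₁ π₁ : M₁) (hr : r ^ p = algebraMap M₁ M₂ a₁)
    (bM : Module.Basis (Fin p) M₁ M₂) (hbM : ∀ i, bM i = r ^ (i : ℕ)) (t : ℕ)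
    (hbd : ∀ c : Fin p → M₁, IsIntegral B (∑ i, c i ^ p * a₁ ^ (i : ℕ)) →
      ∀ i, IsIntegral B (π₁ ^ t * c i))
    (w : M₂) (hw : w ∈ W₂) :
    ∃ R : (↥W₁)[X], R.natDegree < p ∧ algebraMap M₁ M₂ (π₁ ^ t) * w = ev W₁ r R := by
  classical
  obtain ⟨c, hc⟩ : ∃ c : Fin p → M₁, c = fun i => bM.repr w i := ⟨_, rfl⟩
  have hwsum : w = ∑ i, c i • r ^ (i : ℕ) := by
    conv_lhs => rw [← bM.sum_repr w]
    refine Finset.sum_congr rfl fun i _ => ?_
    rw [hc, hbM]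
  obtain ⟨x, hx⟩ : ∃ x : M₁, x = ∑ i, c i ^ p * a₁ ^ (i : ℕ) := ⟨_, rfl⟩
  have hwp : w ^ p = algebraMap M₁ M₂ x := by
    rw [hwsum, sum_pow_char, hx, map_sum]
    refine Finset.sum_congr rfl fun i _ => ?_
    rw [Algebra.smul_def, mul_pow, ← pow_mul, mul_comm (i : ℕ) p, pow_mul, hr,
      map_mul, map_pow, map_pow]
  have hxW : x ∈ W₁ := by
    rw [← hW₂]
    show algebraMap M₁ M₂ x ∈ W₂
    rw [← hwp]
    exact pow_mem hw p
  obtain ⟨s, hsint, hvs, hsx⟩ := exists_unit_mul_integral halg hinj W₁ hW1 hW2 x hxW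
  have hs0 : s ≠ 0 := by
    intro h
    rw [h, map_zero] at hvs
    exact zero_ne_one hvs
  have hsinv : s⁻¹ ∈ W₁ := by
    rw [← W₁.valuation_le_one_iff, map_inv₀, hvs, inv_one]
  have hc' : IsIntegral B (∑ i, (s * c i) ^ p * a₁ ^ (i : ℕ)) := by
    have h1 : (∑ i, (s * c i) ^ p * a₁ ^ (i : ℕ)) = s ^ (p - 1) * (s * x) := by
      rw [hx, Finset.mul_sum, Finset.mul_sum]
      refine Finset.sum_congr rfl fun i _ => ?_
      rw [mul_pow]
      have h2 : s ^ p = s ^ (p - 1) * s := by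
        rw [← pow_succ, Nat.sub_add_cancel hp.one_le]
      rw [h2]
      ring
    rw [h1]
    exact (hsint.pow _).mul hsx
  have h3 := hbd (fun i => s * c i) hc'
  have hmem : ∀ i, π₁ ^ t * c i ∈ W₁ := by
    intro i
    have h4 : π₁ ^ t * (s * c i) ∈ W₁ := DVRExt.mem_of_isIntegral W₁ hW1 (h3 i)
    have h5 : π₁ ^ t * c i = s⁻¹ * (π₁ ^ t * (s * c i)) := by
      field_simp
    rw [h5]
    exact W₁.mul_mem _ _ hsinv h4
  refine ⟨∑ i : Fin p, monomial (i : ℕ) (⟨π₁ ^ t * c i, hmem i⟩ : W₁), ?_, ?_⟩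
  · apply lt_of_le_of_lt (natDegree_sum_le _ _)
    rw [Finset.fold_max_lt]
    refine ⟨hp.pos, fun i _ => ?_⟩
    exact lt_of_le_of_lt (natDegree_monomial_le _) i.2
  · rw [map_sum, hwsum, Finset.mul_sum]
    refine Finset.sum_congr rfl fun i _ => ?_
    rw [ev_monomial]
    show _ = (π₁ ^ t * c i) • r ^ (i : ℕ)
    rw [Algebra.smul_def, Algebra.smul_def, map_mul, mul_assoc]

end HBound

section Span

variable {L K₁ K₃ M₁ M₃ : Type u} [Field L] [Field K₁] [Field K₃] [Field M₁] [Field M₃]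
  [Algebra K₁ K₃] [Algebra K₁ M₁] [Algebra M₁ M₃] [Algebra K₃ M₃] [Algebra K₁ M₃]
  [IsScalarTower K₁ M₁ M₃] [IsScalarTower K₁ K₃ M₃]
  [Algebra L M₁] [Algebra L M₃] [IsScalarTower L M₁ M₃]

/-- `M₃ = M₁[y]`. -/
theorem hspanM_of_gen (p : ℕ) (hp : p.Prime) (π a : K₁) (n : ℕ) (y : K₃)
    (hy : y ^ p = algebraMap K₁ K₃ (π ^ n) * y + algebraMap K₁ K₃ a)
    (hspanK : ∀ x : K₃, ∃ R : K₁[X], R.natDegree < p ∧ x = aeval y R)
    (hgen₃ : Algebra.adjoin L (Set.range (algebraMap K₃ M₃)) = ⊤) (x : M₃) :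
    ∃ R : M₁[X], R.natDegree < p ∧ x = aeval (algebraMap K₃ M₃ y) R := by
  classical
  obtain ⟨y₃, hy₃⟩ : ∃ y₃ : M₃, y₃ = algebraMap K₃ M₃ y := ⟨_, rfl⟩
  rw [← hy₃]
  -- every element is a polynomial in `y₃`
  have hall : ∀ x : M₃, x ∈ ((aeval y₃ : M₁[X] →ₐ[M₁] M₃).range.restrictScalars L) := by
    intro x
    have hx : x ∈ Algebra.adjoin L (Set.range (algebraMap K₃ M₃)) := by
      rw [hgen₃]; exact Algebra.mem_top
    refine Algebra.adjoin_le ?_ hx
    rintro _ ⟨k, rfl⟩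
    obtain ⟨R₀, -, hR₀⟩ := hspanK k
    refine ⟨R₀.map (algebraMap K₁ M₁), ?_⟩
    show aeval y₃ (R₀.map (algebraMap K₁ M₁)) = algebraMap K₃ M₃ k
    rw [aeval_map_algebraMap, hR₀, hy₃, aeval_algebraMap_apply]
  obtain ⟨Q, hQ⟩ := hall x
  -- reduce modulo the monic polynomial
  obtain ⟨f, hf⟩ : ∃ f : M₁[X],
      f = X ^ p - (C (algebraMap K₁ M₁ (π ^ n)) * X + C (algebraMap K₁ M₁ a)) := ⟨_, rfl⟩
  have hlow : (C (algebraMap K₁ M₁ (π ^ n)) * X + C (algebraMap K₁ M₁ a) : M₁[X]).degree <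
      (p : ℕ) := by
    refine lt_of_le_of_lt (degree_linear_le) ?_
    exact_mod_cast hp.one_lt
  have hmonic : f.Monic := hf ▸ monic_X_pow_sub hlow
  have hdeg : f.natDegree = p := by
    rw [hf, natDegree_sub_eq_left_of_natDegree_lt, natDegree_X_pow]
    rw [natDegree_X_pow]
    refine lt_of_le_of_lt (natDegree_linear_le) hp.one_lt
  have hroot : aeval y₃ f = 0 := by
    rw [hf, map_sub, map_pow, aeval_X, map_add, map_mul, aeval_C, aeval_X, aeval_C, hy₃,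
      ← map_pow, hy, map_add, map_mul, ← IsScalarTower.algebraMap_apply K₁ K₃ M₃,
      ← IsScalarTower.algebraMap_apply K₁ K₃ M₃, ← IsScalarTower.algebraMap_apply K₁ M₁ M₃,
      ← IsScalarTower.algebraMap_apply K₁ M₁ M₃, sub_self]
  refine ⟨Q %ₘ f, ?_, ?_⟩
  · rw [← hdeg]
    exact natDegree_modByMonic_lt Q hmonic (by
      intro h1
      rw [h1, natDegree_one] at hdeg
      exact hp.ne_zero hdeg.symm)
  · have h2 : Q = Q %ₘ f + f * (Q /ₘ f) := (modByMonic_add_div Q f).symm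
    have h3 : aeval y₃ Q = x := hQ
    rw [← h3]
    conv_lhs => rw [h2, map_add, map_mul, hroot, zero_mul, add_zero]

end Span

section Gen

variable {L K₁ K₂ M₁ M₂ : Type u} [Field L] [Field K₁] [Field K₂] [Field M₁] [Field M₂]
  [Algebra K₁ K₂] [Algebra K₁ M₁] [Algebra M₁ M₂] [Algebra K₂ M₂] [Algebra K₁ M₂]
  [IsScalarTower K₁ M₁ M₂] [IsScalarTower K₁ K₂ M₂]
  [Algebra L M₁] [Algebra L M₂] [IsScalarTower L M₁ M₂]

/-- `M₂ = L K₂` when `M₁ = L K₁` and `M₂ = M₁(z)`. -/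
theorem hgen₂_of_gen (hgen₁ : Algebra.adjoin L (Set.range (algebraMap K₁ M₁)) = ⊤)
    (z : K₂) (htop : Algebra.adjoin M₁ {algebraMap K₂ M₂ z} = ⊤) :
    Algebra.adjoin L (Set.range (algebraMap K₂ M₂)) = ⊤ := by
  rw [eq_top_iff]
  rintro x -
  have h1 : ∀ m : M₁, algebraMap M₁ M₂ m ∈ Algebra.adjoin L (Set.range (algebraMap K₂ M₂)) := by
    intro m
    have hm : m ∈ Algebra.adjoin L (Set.range (algebraMap K₁ M₁)) := by
      rw [hgen₁]; exact Algebra.mem_top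
    induction hm using Algebra.adjoin_induction with
    | mem x hx =>
      obtain ⟨k, rfl⟩ := hx
      rw [← IsScalarTower.algebraMap_apply K₁ M₁ M₂, IsScalarTower.algebraMap_apply K₁ K₂ M₂]
      exact Algebra.subset_adjoin (Set.mem_range_self _)
    | algebraMap l =>
      rw [← IsScalarTower.algebraMap_apply L M₁ M₂]
      exact Subalgebra.algebraMap_mem _ l
    | add x y _ _ hx hy => rw [map_add]; exact Subalgebra.add_mem _ hx hy
    | mul x y _ _ hx hy => rw [map_mul]; exact Subalgebra.mul_mem _ hx hy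
  have hx : x ∈ Algebra.adjoin M₁ {algebraMap K₂ M₂ z} := by
    rw [htop]; exact Algebra.mem_top
  induction hx using Algebra.adjoin_induction with
  | mem x hx =>
    rw [Set.mem_singleton_iff] at hx
    rw [hx]
    exact Algebra.subset_adjoin (Set.mem_range_self _)
  | algebraMap m => exact h1 m
  | add x y _ _ hx hy => exact Subalgebra.add_mem _ hx hy
  | mul x y _ _ hx hy => exact Subalgebra.mul_mem _ hx hy

end Gen

end Groth.Agent.Lib.Helper9.PISep
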