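import Mathlib
import Groth.Prelude.Def_EtRam
import Groth.Agent.Lib.Helper48.NagataNormalization2

/-!
# The conductor bound for `M₁(a^{1/p})` over a Nagata discrete valuation ring (helper9)

`bound_field`: `B` Nagata domain with fraction field `L`, `M₁ / L` finite, `a₁ ∈ M₁` not a
`p`-th power, `πB ∈ B` such that every nonzero element of `B` divides a power of `πB`.  Then there is
`t` such that whenever `∑ c_i^p a₁^i` is integral over `B`, all the `πB^t c_i` are integral over `B`.
-/

universe u

open Polynomial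

namespace Groth.Agent.Lib.Helper9.PISep

section FGBound

variable {B M : Type*} [CommRing B] [IsDomain B] [Field M] [Algebra B M]

/-- finitely generated submodules of an algebraic extension are bounded. -/
theorem exists_pow_smul_integral (halg : Algebra.IsAlgebraic B M) (πB : B)
    (hπB : ∀ d : B, d ≠ 0 → ∃ k, d ∣ πB ^ k) (N : Submodule B M) (hN : N.FG) :
    ∃ t : ℕ, ∀ x ∈ N, IsIntegral B (πB ^ t • x) := by
  classical
  have hgen : ∀ S : Finset M, ∃ t : ℕ, ∀ x ∈ S, IsIntegral B (πB ^ t • x) := by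
    intro S
    induction S using Finset.induction_on with
    | empty => exact ⟨0, fun x hx => absurd hx (Finset.notMem_empty x)⟩
    | insert s S hs ih =>
      obtain ⟨t, ht⟩ := ih
      obtain ⟨d, hd0, hd⟩ := (halg.isAlgebraic s).exists_integral_multiple
      obtain ⟨k, e, he⟩ := hπB d hd0
      refine ⟨t + k, fun x hx => ?_⟩
      rcases Finset.mem_insert.mp hx with rfl | hx
      · have h1 : πB ^ (t + k) • x = (πB ^ t * e) • (d • x) := by
          rw [smul_smul, pow_add, he]
          congr 1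
          ring
        rw [h1]
        exact hd.smul _
      · have h1 : πB ^ (t + k) • x = πB ^ k • (πB ^ t • x) := by
          rw [smul_smul, pow_add, mul_comm]
        rw [h1]
        exact (ht x hx).smul _
  obtain ⟨S, hS⟩ := hN
  obtain ⟨t, ht⟩ := hgen S
  refine ⟨t, fun x hx => ?_⟩
  rw [← hS] at hx
  induction hx using Submodule.span_induction with
  | mem x hx => exact ht x hx
  | zero => rw [smul_zero]; exact isIntegral_zero
  | add x y _ _ hx hy => rw [smul_add]; exact hx.add hy
  | smul b x _ hx => rw [smul_comm]; exact hx.smul b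

end FGBound

section Field

variable {B : Type u} (L : Type u) {M₁ : Type u} [CommRing B] [IsDomain B] [Field L] [Algebra B L]
  [IsFractionRing B L] [Field M₁] [Algebra L M₁] [Algebra B M₁] [IsScalarTower B L M₁]
  [FiniteDimensional L M₁]

include L in

/-- **The conductor bound for one field.** -/
theorem bound_field (hB : CAlg.IsNagata B) (p : ℕ) (hp : p.Prime) [ExpChar M₁ p]
    (a₁ : M₁) (ha₁ : ∀ b : M₁, b ^ p ≠ a₁) (πB : B)
    (hπB : ∀ d : B, d ≠ 0 → ∃ k, d ∣ πB ^ k) :
    ∃ t : ℕ, ∀ c : Fin p → M₁, IsIntegral B (∑ i, c i ^ p * a₁ ^ (i : ℕ)) →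
      ∀ i, IsIntegral B (algebraMap B M₁ πB ^ t * c i) := by
  classical
  haveI : Algebra.IsAlgebraic B L := IsLocalization.isAlgebraic L (nonZeroDivisors B)
  haveI halg : Algebra.IsAlgebraic B M₁ := Algebra.IsAlgebraic.trans B L M₁
  obtain ⟨f, hf⟩ : ∃ f : M₁[X], f = X ^ p - C a₁ := ⟨_, rfl⟩
  have hirr : Irreducible f := hf ▸ X_pow_sub_C_irreducible_of_prime hp ha₁
  have hmonic : f.Monic := hf ▸ monic_X_pow_sub_C a₁ hp.ne_zero
  have hdeg : f.natDegree = p := hf ▸ natDegree_X_pow_sub_C
  haveI : Fact (Irreducible f) := ⟨hirr⟩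
  haveI : ExpChar (AdjoinRoot f) p :=
    expChar_of_injective_algebraMap (algebraMap M₁ (AdjoinRoot f)).injective p
  haveI : Module.Finite M₁ (AdjoinRoot f) := hmonic.finite_adjoinRoot
  haveI : Algebra.EssFiniteType B L := Algebra.EssFiniteType.of_isLocalization L (nonZeroDivisors B)
  haveI : Algebra.EssFiniteType B M₁ := Algebra.EssFiniteType.comp B L M₁
  haveI : Algebra.EssFiniteType B (AdjoinRoot f) := Algebra.EssFiniteType.comp B M₁ (AdjoinRoot f)
  haveI hfin : Module.Finite B (integralClosure B (AdjoinRoot f)) :=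
    Groth.Agent.Lib.Helper48.finite_integralClosure_of_isNagata_of_essFiniteType_field hB
  have hCfg : (Subalgebra.toSubmodule (integralClosure B (AdjoinRoot f))).FG :=
    Module.Finite.iff_fg.mp hfin
  -- the power basis
  obtain ⟨b, hb⟩ : ∃ b : Module.Basis (Fin p) M₁ (AdjoinRoot f),
      ∀ i, b i = AdjoinRoot.root f ^ (i : ℕ) := by
    refine ⟨(AdjoinRoot.powerBasis' hmonic).basis.reindex (finCongr hdeg), fun i => ?_⟩
    rw [Module.Basis.reindex_apply, PowerBasis.basis_eq_pow]
    rfl
  have hroot : AdjoinRoot.root f ^ p = algebraMap M₁ (AdjoinRoot f) a₁ := by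
    have h1 : aeval (AdjoinRoot.root f) f = 0 := AdjoinRoot.aeval_eq f ▸ AdjoinRoot.mk_self
    have h2 : aeval (AdjoinRoot.root f) (X ^ p - C a₁) = 0 := by rw [← hf]; exact h1
    rw [map_sub, map_pow, aeval_X, aeval_C, sub_eq_zero] at h2
    exact h2
  -- the bounded submodule
  obtain ⟨N, hN⟩ : ∃ N : Submodule B M₁, N = ⨆ i : Fin p,
      (Subalgebra.toSubmodule (integralClosure B (AdjoinRoot f))).map
        ((b.coord i).restrictScalars B) := ⟨_, rfl⟩
  have hNfg : N.FG := by
    rw [hN]
    exact Submodule.fg_iSup _ (fun i => hCfg.map _)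
  obtain ⟨t, ht⟩ := exists_pow_smul_integral halg πB hπB N hNfg
  refine ⟨t, fun c hc i => ?_⟩
  obtain ⟨w, hw⟩ : ∃ w : AdjoinRoot f, w = ∑ i, c i • b i := ⟨_, rfl⟩
  have hwp : w ^ p = algebraMap M₁ (AdjoinRoot f) (∑ i, c i ^ p * a₁ ^ (i : ℕ)) := by
    rw [hw, sum_pow_char, map_sum]
    refine Finset.sum_congr rfl fun i _ => ?_
    rw [hb, Algebra.smul_def, mul_pow, ← pow_mul, mul_comm (i : ℕ) p, pow_mul, hroot,
      map_mul, map_pow, map_pow]
  have hwint : IsIntegral B w := by
    apply IsIntegral.of_pow hp.pos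
    rw [hwp]
    exact hc.map (IsScalarTower.toAlgHom B M₁ (AdjoinRoot f))
  have hci : c i ∈ N := by
    rw [hN]
    apply Submodule.mem_iSup_of_mem i
    refine ⟨w, hwint, ?_⟩
    show b.coord i w = c i
    rw [hw, Module.Basis.coord_apply, Module.Basis.repr_sum_self]
  have h2 := ht (c i) hci
  rw [Algebra.smul_def, map_pow] at h2
  exact h2

end Field

end Groth.Agent.Lib.Helper9.PISep
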