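import Mathlib

/-!
# The separable approximation `y^p = π^n y + a` of the purely inseparable `z^p = a` (helper9)
-/

universe u

open Polynomial

namespace Groth.Agent.Lib.Helper9.PISep

/-- a finite separable extension generated by a root of `X^p - π^n X - a`. -/
theorem exists_sep_ext {p : ℕ} (hp : p.Prime) (K₁ : Type u) [Field K₁] [CharP K₁ p] (π a : K₁)
    (hπ0 : π ≠ 0) (n : ℕ) :
    ∃ (K₃ : Type u) (_ : Field K₃) (_ : Algebra K₁ K₃) (y : K₃),
      FiniteDimensional K₁ K₃ ∧ Algebra.IsSeparable K₁ K₃ ∧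
      y ^ p = algebraMap K₁ K₃ (π ^ n) * y + algebraMap K₁ K₃ a ∧
      ∀ x : K₃, ∃ R : K₁[X], R.natDegree < p ∧ x = aeval y R := by
  classical
  obtain ⟨f, hf⟩ : ∃ f : K₁[X], f = X ^ p - (C (π ^ n) * X + C a) := ⟨_, rfl⟩
  have hlow : (C (π ^ n) * X + C a : K₁[X]).degree < (p : ℕ) := by
    refine lt_of_le_of_lt (degree_linear_le) ?_
    exact_mod_cast hp.one_lt
  have hmonic : f.Monic := hf ▸ monic_X_pow_sub hlow
  have hdeg : f.natDegree = p := by
    rw [hf, natDegree_sub_eq_left_of_natDegree_lt, natDegree_X_pow]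
    rw [natDegree_X_pow]
    refine lt_of_le_of_lt (natDegree_linear_le) hp.one_lt
  have hder : derivative f = - C (π ^ n) := by
    rw [hf, derivative_sub, derivative_X_pow, derivative_add, derivative_C, add_zero,
      derivative_C_mul, derivative_X, mul_one]
    have h1 : (C (p : K₁) : K₁[X]) = 0 := by rw [CharP.cast_eq_zero, map_zero]
    rw [h1, zero_mul, zero_sub]
  have hsep : f.Separable := by
    rw [separable_def, hder]
    have hu : IsUnit (- C (π ^ n) : K₁[X]) :=
      (isUnit_C.mpr (isUnit_iff_ne_zero.mpr (pow_ne_zero n hπ0))).neg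
    exact ⟨0, ↑hu.unit⁻¹, by rw [zero_mul, zero_add]; exact hu.val_inv_mul⟩
  obtain ⟨g, hg, hgf⟩ := exists_irreducible_of_natDegree_pos (f := f) (by rw [hdeg]; exact hp.pos)
  haveI : Fact (Irreducible g) := ⟨hg⟩
  have hroot : aeval (AdjoinRoot.root g) f = 0 := by
    obtain ⟨h, hh⟩ := hgf
    rw [hh, map_mul, AdjoinRoot.aeval_eq, AdjoinRoot.mk_self, zero_mul]
  haveI hfd : FiniteDimensional K₁ (AdjoinRoot g) :=
    (AdjoinRoot.powerBasis hg.ne_zero).finite
  refine ⟨AdjoinRoot g, inferInstance, inferInstance, AdjoinRoot.root g, hfd, ?_, ?_, ?_⟩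
  · -- separable
    have hrs : IsSeparable K₁ (AdjoinRoot.root g) :=
      hsep.of_dvd (minpoly.dvd K₁ _ hroot)
    have htop : IntermediateField.adjoin K₁ {AdjoinRoot.root g} = ⊤ :=
      IntermediateField.adjoin_eq_top_of_algebra K₁ _ AdjoinRoot.adjoinRoot_eq_top
    rw [← separableClosure.eq_top_iff, eq_top_iff, ← htop, IntermediateField.adjoin_le_iff]
    rintro _ rfl
    exact mem_separableClosure_iff.mpr hrs
  · have h1 := hroot
    rw [hf, map_sub, map_pow, aeval_X, map_add, map_mul, aeval_C, aeval_X, aeval_C,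
      sub_eq_zero] at h1
    exact h1
  · intro x
    obtain ⟨Q, rfl⟩ := AdjoinRoot.mk_surjective x
    refine ⟨Q %ₘ f, ?_, ?_⟩
    · rw [← hdeg]
      exact natDegree_modByMonic_lt Q hmonic (by
        intro h1
        rw [h1, natDegree_one] at hdeg
        exact hp.ne_zero hdeg.symm)
    · rw [← AdjoinRoot.aeval_eq]
      have h2 : Q = Q %ₘ f + f * (Q /ₘ f) := (modByMonic_add_div Q f).symm
      conv_lhs => rw [h2, map_add, map_mul, hroot, zero_mul, add_zero]

end Groth.Agent.Lib.Helper9.PISep
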