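import Mathlib

/-!
# Transport of geometric reducedness along ring isomorphisms (helper9)
-/

universe u

open TensorProduct

namespace Groth.Agent.Lib.Helper9.PISep

/-- change of base field along an isomorphism. -/
theorem isGeometricallyReduced_of_equiv_base {k k' A' : Type u} [Field k] [Field k'] [CommRing A']
    [Algebra k A'] [Algebra k' A'] (e₁ : k ≃+* k')
    (h : ∀ x, algebraMap k A' x = algebraMap k' A' (e₁ x))
    [Algebra.IsGeometricallyReduced k A'] : Algebra.IsGeometricallyReduced k' A' := by
  rw [Algebra.isGeometricallyReduced_field_iff]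
  letI algkΩ : Algebra k (AlgebraicClosure k') :=
    ((algebraMap k' (AlgebraicClosure k')).comp (e₁ : k →+* k')).toAlgebra
  have halg : ∀ x : k, algebraMap k (AlgebraicClosure k') x =
      algebraMap k' (AlgebraicClosure k') (e₁ x) := fun x => rfl
  haveI : Algebra.IsAlgebraic k (AlgebraicClosure k') := by
    refine ⟨fun ω => ?_⟩
    obtain ⟨P, hP0, hP⟩ := Algebra.IsAlgebraic.isAlgebraic (R := k') ω
    refine ⟨P.map (e₁.symm : k' →+* k), ?_, ?_⟩
    · rwa [Ne, Polynomial.map_eq_zero_iff e₁.symm.injective]
    · rw [Polynomial.aeval_def, Polynomial.eval₂_map]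
      have : (algebraMap k (AlgebraicClosure k')).comp (e₁.symm : k' →+* k) =
          algebraMap k' (AlgebraicClosure k') := by
        ext x
        rw [RingHom.comp_apply, halg]
        simp
      rw [this]
      exact hP
  haveI hred : IsReduced (AlgebraicClosure k' ⊗[k] A') := inferInstance
  haveI : SMulCommClass k k' (AlgebraicClosure k') :=
    ⟨fun a b c => by simp only [Algebra.smul_def]; ring⟩
  haveI : SMulCommClass k (AlgebraicClosure k') (AlgebraicClosure k') :=
    ⟨fun a b c => by simp only [Algebra.smul_def, smul_eq_mul]; ring⟩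
  haveI : SMulCommClass k' (AlgebraicClosure k') (AlgebraicClosure k') :=
    ⟨fun a b c => by simp only [Algebra.smul_def, smul_eq_mul]; ring⟩
  haveI c1 : TensorProduct.CompatibleSMul k k' (AlgebraicClosure k') A' := by
    constructor
    intro r m n
    obtain ⟨c, rfl⟩ := e₁.surjective r
    have h1 : e₁ c • m = c • m := by
      rw [Algebra.smul_def, Algebra.smul_def, halg]
    have h2 : e₁ c • n = c • n := by
      rw [Algebra.smul_def, Algebra.smul_def, h]
    rw [h1, h2, TensorProduct.smul_tmul]
  haveI c2 : TensorProduct.CompatibleSMul k' k (AlgebraicClosure k') A' := by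
    constructor
    intro r m n
    have h1 : r • m = e₁ r • m := by
      rw [Algebra.smul_def, Algebra.smul_def, halg]
    have h2 : r • n = e₁ r • n := by
      rw [Algebra.smul_def, Algebra.smul_def, h]
    rw [h1, h2, TensorProduct.smul_tmul]
  exact isReduced_of_injective
    (Algebra.TensorProduct.equivOfCompatibleSMul k k' (AlgebraicClosure k')
      (AlgebraicClosure k') A').toAlgHom
    (Algebra.TensorProduct.equivOfCompatibleSMul k k' (AlgebraicClosure k')
      (AlgebraicClosure k') A').injective

/-- Transport of geometric reducedness along a pair of compatible ring isomorphisms. -/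
theorem isGeometricallyReduced_of_ringEquiv {k A k' A' : Type u} [Field k] [Field k']
    [CommRing A] [CommRing A'] [Algebra k A] [Algebra k' A'] (e₁ : k ≃+* k') (e₂ : A ≃+* A')
    (h : ∀ x, e₂ (algebraMap k A x) = algebraMap k' A' (e₁ x))
    [Algebra.IsGeometricallyReduced k A] : Algebra.IsGeometricallyReduced k' A' := by
  letI algkA' : Algebra k A' := ((algebraMap k' A').comp (e₁ : k →+* k')).toAlgebra
  let e : A ≃ₐ[k] A' := AlgEquiv.ofRingEquiv (f := e₂) (fun x => h x)
  haveI : Algebra.IsGeometricallyReduced k A' :=
    Algebra.IsGeometricallyReduced.of_injective e.symm.toAlgHom e.symm.injective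
  exact isGeometricallyReduced_of_equiv_base e₁ (fun x => rfl)

end Groth.Agent.Lib.Helper9.PISep
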