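import Mathlib
import Groth.Prelude.Def_EtRam
import Groth.Agent.Lib.Helper9.PISep.Image
import Groth.Agent.Lib.Helper9.PISep.Transport

/-!
# The local comparison step for S7151 (helper9)

`V₁ ⊆ W₁` valuation rings of `K₁ ⊆ M₁`; `K₂ = K₁(z)`, `M₂ = M₁(z)` with `z^p = a`; `K₃ = K₁(y)`,
`M₃ = M₁(y)` with `y^p = π^n y + a`.  If `W₂ ∩ K₂ → W₂` is weakly unramified with separable residue
field extension, `π^t W₂ ⊆ W₁[z]` and `n ≥ 2t+2`, then `W₃ ∩ K₃ → W₃` is weakly unramified with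
separable residue field extension.
-/

universe u

open Polynomial IsLocalRing EtRam

namespace Groth.Agent.Lib.Helper9.PISep

section Compat

variable {K₁ M₁ K₂ M₂ K₃ M₃ : Type u} [Field K₁] [Field M₁] [Field K₂] [Field M₂] [Field K₃]
  [Field M₃] [Algebra K₁ M₁] [Algebra K₁ K₂] [Algebra K₁ K₃] [Algebra M₁ M₂] [Algebra M₁ M₃]
  [Algebra K₂ M₂] [Algebra K₃ M₃] [Algebra K₁ M₂] [Algebra K₁ M₃]
  [IsScalarTower K₁ M₁ M₂] [IsScalarTower K₁ K₂ M₂] [IsScalarTower K₁ M₁ M₃]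
  [IsScalarTower K₁ K₃ M₃]

/-- compatibility of the two comparison maps. -/
theorem theta_compat (p : ℕ) (z : K₂) (y : K₃)
    (bK : Module.Basis (Fin p) K₁ K₂) (hbK : ∀ i, bK i = z ^ (i : ℕ))
    (bM : Module.Basis (Fin p) M₁ M₂) (hbM : ∀ i, bM i = (algebraMap K₂ M₂ z) ^ (i : ℕ))
    (x : K₂) :
    bM.constr M₁ (fun i : Fin p => (algebraMap K₃ M₃ y) ^ (i : ℕ)) (algebraMap K₂ M₂ x) =
      algebraMap K₃ M₃ (bK.constr K₁ (fun i : Fin p => y ^ (i : ℕ)) x) := by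
  conv_lhs => rw [← bK.sum_repr x]
  conv_rhs => rw [← bK.sum_repr x]
  rw [map_sum, map_sum, map_sum, map_sum]
  refine Finset.sum_congr rfl fun i _ => ?_
  have h1 : algebraMap K₂ M₂ (bK.repr x i • bK i) =
      (algebraMap K₁ M₁ (bK.repr x i)) • bM i := by
    rw [Algebra.smul_def, Algebra.smul_def, map_mul, hbK, hbM, map_pow,
      ← IsScalarTower.algebraMap_apply K₁ K₂ M₂, ← IsScalarTower.algebraMap_apply K₁ M₁ M₂]
  rw [h1, map_smul, map_smul, Module.Basis.constr_basis, Module.Basis.constr_basis,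
    Algebra.smul_def, Algebra.smul_def, map_mul, map_pow,
    ← IsScalarTower.algebraMap_apply K₁ M₁ M₃, ← IsScalarTower.algebraMap_apply K₁ K₃ M₃]

end Compat

section Bound

variable {K₁ M₁ K₂ M₂ : Type u} [Field K₁] [Field M₁] [Field K₂] [Field M₂]
  [Algebra K₁ M₁] [Algebra K₁ K₂] [Algebra M₁ M₂] [Algebra K₂ M₂] [Algebra K₁ M₂]
  [IsScalarTower K₁ M₁ M₂] [IsScalarTower K₁ K₂ M₂]

theorem ev_eq_sum {F R : Type u} [Field F] [Field R] [Algebra F R] (O : ValuationSubring F)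
    (x : R) (p : ℕ) (P : (↥O)[X]) (hP : P.natDegree < p) :
    ev O x P = ∑ i : Fin p, ((P.coeff i : O) : F) • x ^ (i : ℕ) := by
  conv_lhs => rw [P.as_sum_range' p hP, map_sum]
  rw [Fin.sum_univ_eq_sum_range (fun i => ((P.coeff i : O) : F) • x ^ i) p]
  exact Finset.sum_congr rfl fun i _ => ev_monomial O x i _

/-- the bound `π^t W₂ ⊆ W₁[z]` descends to `π^t V₂ ⊆ V₁[z]`. -/
theorem bound_descend (p : ℕ) (π : K₁) (z : K₂)
    (bK : Module.Basis (Fin p) K₁ K₂) (hbK : ∀ i, bK i = z ^ (i : ℕ))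
    (bM : Module.Basis (Fin p) M₁ M₂) (hbM : ∀ i, bM i = (algebraMap K₂ M₂ z) ^ (i : ℕ))
    (W₁ : ValuationSubring M₁) (W₂ : ValuationSubring M₂) (t : ℕ)
    (hbound : ∀ w ∈ W₂, ∃ R : (↥W₁)[X], R.natDegree < p ∧
      algebraMap M₁ M₂ ((algebraMap K₁ M₁ π) ^ t) * w = ev W₁ (algebraMap K₂ M₂ z) R)
    (v : K₂) (hv : v ∈ W₂.comap (algebraMap K₂ M₂)) :
    ∃ R : (↥(W₁.comap (algebraMap K₁ M₁)))[X], R.natDegree < p ∧
      algebraMap K₁ K₂ (π ^ t) * v = ev (W₁.comap (algebraMap K₁ M₁)) z R := by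
  classical
  obtain ⟨R, hRdeg, hR⟩ := hbound (algebraMap K₂ M₂ v) hv
  obtain ⟨c, hc⟩ : ∃ c : Fin p → K₁, c = fun i => bK.repr (algebraMap K₁ K₂ (π ^ t) * v) i :=
    ⟨_, rfl⟩
  have hsum : algebraMap K₁ K₂ (π ^ t) * v = ∑ i : Fin p, c i • z ^ (i : ℕ) := by
    conv_lhs => rw [← bK.sum_repr (algebraMap K₁ K₂ (π ^ t) * v)]
    refine Finset.sum_congr rfl fun i _ => ?_
    rw [hc, hbK]
  have hmap : algebraMap M₁ M₂ ((algebraMap K₁ M₁ π) ^ t) * algebraMap K₂ M₂ v =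
      ∑ i : Fin p, (algebraMap K₁ M₁ (c i)) • bM i := by
    have h1 : algebraMap M₁ M₂ ((algebraMap K₁ M₁ π) ^ t) = algebraMap K₂ M₂ (algebraMap K₁ K₂ (π ^ t)) := by
      rw [← map_pow, ← IsScalarTower.algebraMap_apply K₁ M₁ M₂,
        ← IsScalarTower.algebraMap_apply K₁ K₂ M₂]
    rw [h1, ← map_mul, hsum, map_sum]
    refine Finset.sum_congr rfl fun i _ => ?_
    rw [Algebra.smul_def, Algebra.smul_def, map_mul, hbM, map_pow,
      ← IsScalarTower.algebraMap_apply K₁ K₂ M₂, ← IsScalarTower.algebraMap_apply K₁ M₁ M₂]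
  have hev : ev W₁ (algebraMap K₂ M₂ z) R = ∑ i : Fin p, ((R.coeff i : W₁) : M₁) • bM i := by
    rw [ev_eq_sum W₁ _ p R hRdeg]
    exact Finset.sum_congr rfl fun i _ => by rw [hbM]
  have hcoef : ∀ i : Fin p, algebraMap K₁ M₁ (c i) = ((R.coeff i : W₁) : M₁) := by
    intro i
    have h2 := congrArg (fun m => bM.repr m i) (hmap.symm.trans (hR.trans hev))
    simp only [Module.Basis.repr_sum_self] at h2
    exact h2
  have hcmem : ∀ i : Fin p, c i ∈ W₁.comap (algebraMap K₁ M₁) := by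
    intro i
    show algebraMap K₁ M₁ (c i) ∈ W₁
    rw [hcoef]
    exact (R.coeff i).2
  refine ⟨∑ i : Fin p, monomial (i : ℕ) (⟨c i, hcmem i⟩ : W₁.comap (algebraMap K₁ M₁)), ?_, ?_⟩
  · rcases Nat.eq_zero_or_pos p with hp0 | hp0
    · subst hp0
      simp at hRdeg
    apply lt_of_le_of_lt (natDegree_sum_le _ _)
    rw [Finset.fold_max_lt]
    refine ⟨hp0, fun i _ => ?_⟩
    exact lt_of_le_of_lt (natDegree_monomial_le _) i.2
  · rw [hsum, map_sum]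
    exact Finset.sum_congr rfl fun i _ =>
      (ev_monomial (W₁.comap (algebraMap K₁ M₁)) z i ⟨c i, hcmem i⟩).symm

end Bound

section Local

variable {K₁ M₁ K₂ M₂ K₃ M₃ : Type u} [Field K₁] [Field M₁] [Field K₂] [Field M₂] [Field K₃]
  [Field M₃] [Algebra K₁ M₁] [Algebra K₁ K₂] [Algebra K₁ K₃] [Algebra M₁ M₂] [Algebra M₁ M₃]
  [Algebra K₂ M₂] [Algebra K₃ M₃] [Algebra K₁ M₂] [Algebra K₁ M₃]
  [IsScalarTower K₁ M₁ M₂] [IsScalarTower K₁ K₂ M₂] [IsScalarTower K₁ M₁ M₃]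
  [IsScalarTower K₁ K₃ M₃]

set_option maxHeartbeats 4000000 in
set_option synthInstance.maxHeartbeats 100000 in
/-- **The local comparison step.** -/
theorem local_step (p : ℕ) (hp : 2 ≤ p) (π a : K₁) (z : K₂)
    (hz : z ^ p = algebraMap K₁ K₂ a) (y : K₃) (n : ℕ)
    (hy : y ^ p = algebraMap K₁ K₃ (π ^ n) * y + algebraMap K₁ K₃ a)
    (bK : Module.Basis (Fin p) K₁ K₂) (hbK : ∀ i, bK i = z ^ (i : ℕ))
    (bM : Module.Basis (Fin p) M₁ M₂) (hbM : ∀ i, bM i = (algebraMap K₂ M₂ z) ^ (i : ℕ))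
    (hspanK : ∀ x : K₃, ∃ R : K₁[X], R.natDegree < p ∧ x = aeval y R)
    (hspanM : ∀ x : M₃, ∃ R : M₁[X], R.natDegree < p ∧ x = aeval (algebraMap K₃ M₃ y) R)
    (W₁ : ValuationSubring M₁) [IsDiscreteValuationRing W₁]
    [IsDiscreteValuationRing (W₁.comap (algebraMap K₁ M₁))]
    (hπ0 : π ≠ 0) (hπ : W₁.valuation (algebraMap K₁ M₁ π) < 1) (ha : algebraMap K₁ M₁ a ∈ W₁)
    (W₂ : ValuationSubring M₂) (hW₂ : W₂.comap (algebraMap M₁ M₂) = W₁)
    [IsDiscreteValuationRing (W₂.comap (algebraMap K₂ M₂))]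
    (t : ℕ) (hn : 2 * t + 2 ≤ n)
    (hbound : ∀ w ∈ W₂, ∃ R : (↥W₁)[X], R.natDegree < p ∧
      algebraMap M₁ M₂ ((algebraMap K₁ M₁ π) ^ t) * w = ev W₁ (algebraMap K₂ M₂ z) R)
    (W₃ : ValuationSubring M₃) (hW₃ : W₃.comap (algebraMap M₁ M₃) = W₁)
    (hsol : (@IsWeaklyUnramified (W₂.comap (algebraMap K₂ M₂)) W₂ _ _ _ _
        (inclOfComap W₂ (algebraMap K₂ M₂)).toAlgebra) ∧
      @Algebra.IsGeometricallyReduced (ResidueField (W₂.comap (algebraMap K₂ M₂)))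
        (ResidueField W₂) _ _
        (IsLocalRing.ResidueField.map (inclOfComap W₂ (algebraMap K₂ M₂))).toAlgebra) :
    (@IsWeaklyUnramified (W₃.comap (algebraMap K₃ M₃)) W₃ _ _ _ _
        (inclOfComap W₃ (algebraMap K₃ M₃)).toAlgebra) ∧
      @Algebra.IsGeometricallyReduced (ResidueField (W₃.comap (algebraMap K₃ M₃)))
        (ResidueField W₃) _ _
        (IsLocalRing.ResidueField.map (inclOfComap W₃ (algebraMap K₃ M₃))).toAlgebra := by
  classical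
  -- the comparison maps
  obtain ⟨θK, hθK⟩ : ∃ θK : K₂ →ₗ[K₁] K₃, θK = bK.constr K₁ (fun i : Fin p => y ^ (i : ℕ)) :=
    ⟨_, rfl⟩
  obtain ⟨θM, hθM⟩ : ∃ θM : M₂ →ₗ[M₁] M₃,
      θM = bM.constr M₁ (fun i : Fin p => (algebraMap K₃ M₃ y) ^ (i : ℕ)) := ⟨_, rfl⟩
  have hcompat : ∀ x : K₂, θM (algebraMap K₂ M₂ x) = algebraMap K₃ M₃ (θK x) := by
    intro x
    rw [hθM, hθK]
    exact theta_compat p z y bK hbK bM hbM x
  have hθKz : ∀ i < p, θK (z ^ i) = y ^ i := by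
    intro i hi
    have := Module.Basis.constr_basis bK K₁ (fun i : Fin p => y ^ (i : ℕ)) ⟨i, hi⟩
    rw [hbK] at this
    rw [hθK]
    exact this
  have hθMz : ∀ i < p, θM ((algebraMap K₂ M₂ z) ^ i) = (algebraMap K₃ M₃ y) ^ i := by
    intro i hi
    have := Module.Basis.constr_basis bM M₁ (fun i : Fin p => (algebraMap K₃ M₃ y) ^ (i : ℕ))
      ⟨i, hi⟩
    rw [hbM] at this
    rw [hθM]
    exact this
  -- comaps
  have hV₂ : (W₂.comap (algebraMap K₂ M₂)).comap (algebraMap K₁ K₂) =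
      W₁.comap (algebraMap K₁ M₁) := by
    ext x
    show algebraMap K₂ M₂ (algebraMap K₁ K₂ x) ∈ W₂ ↔ algebraMap K₁ M₁ x ∈ W₁
    rw [← hW₂, ← IsScalarTower.algebraMap_apply K₁ K₂ M₂, IsScalarTower.algebraMap_apply K₁ M₁ M₂]
    exact Iff.rfl
  have hV₃ : (W₃.comap (algebraMap K₃ M₃)).comap (algebraMap K₁ K₃) =
      W₁.comap (algebraMap K₁ M₁) := by
    ext x
    show algebraMap K₃ M₃ (algebraMap K₁ K₃ x) ∈ W₃ ↔ algebraMap K₁ M₁ x ∈ W₁
    rw [← hW₃, ← IsScalarTower.algebraMap_apply K₁ K₃ M₃, IsScalarTower.algebraMap_apply K₁ M₁ M₃]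
    exact Iff.rfl
  -- data at the `M`-level
  have hzM : (algebraMap K₂ M₂ z) ^ p = algebraMap M₁ M₂ (algebraMap K₁ M₁ a) := by
    rw [← map_pow, hz, ← IsScalarTower.algebraMap_apply K₁ K₂ M₂,
      IsScalarTower.algebraMap_apply K₁ M₁ M₂]
  have hyM : (algebraMap K₃ M₃ y) ^ p =
      algebraMap M₁ M₃ ((algebraMap K₁ M₁ π) ^ n) * algebraMap K₃ M₃ y +
        algebraMap M₁ M₃ (algebraMap K₁ M₁ a) := by
    rw [← map_pow, hy, map_add, map_mul, ← map_pow, ← IsScalarTower.algebraMap_apply K₁ K₃ M₃,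
      ← IsScalarTower.algebraMap_apply K₁ K₃ M₃, IsScalarTower.algebraMap_apply K₁ M₁ M₃,
      IsScalarTower.algebraMap_apply K₁ M₁ M₃ a]
  have hπM0 : algebraMap K₁ M₁ π ≠ 0 := by rwa [Ne, map_eq_zero]
  -- data at the `K`-level
  have hπK : (W₁.comap (algebraMap K₁ M₁)).valuation π < 1 :=
    (AbhyankarCore.valuation_comap_lt_one_iff W₁ (algebraMap K₁ M₁) π).mpr hπ
  have haK : a ∈ W₁.comap (algebraMap K₁ M₁) := ha
  have hboundK := bound_descend p π z bK hbK bM hbM W₁ W₂ t hbound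
  -- uniformizers
  obtain ⟨ϖV, hϖV⟩ := IsDiscreteValuationRing.exists_irreducible (W₂.comap (algebraMap K₂ M₂))
  have hϖVlt : (W₂.comap (algebraMap K₂ M₂)).valuation (ϖV : K₂) < 1 := by
    rw [← ValuationSubring.valuation_lt_one_iff]
    exact (mem_maximalIdeal _).mpr hϖV.not_isUnit
  have hϖVgen : ∀ w : K₂, (W₂.comap (algebraMap K₂ M₂)).valuation w < 1 →
      ∃ w' ∈ W₂.comap (algebraMap K₂ M₂), w = (ϖV : K₂) * w' := by
    intro w hw
    have hwmem : w ∈ W₂.comap (algebraMap K₂ M₂) :=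
      ((W₂.comap (algebraMap K₂ M₂)).valuation_le_one_iff w).mp hw.le
    have h1 : (⟨w, hwmem⟩ : W₂.comap (algebraMap K₂ M₂)) ∈
        maximalIdeal (W₂.comap (algebraMap K₂ M₂)) :=
      (ValuationSubring.valuation_lt_one_iff _ _).mpr hw
    rw [hϖV.maximalIdeal_eq, Ideal.mem_span_singleton'] at h1
    obtain ⟨w', hw'⟩ := h1
    refine ⟨w', w'.2, ?_⟩
    have := congrArg (fun v : W₂.comap (algebraMap K₂ M₂) => (v : K₂)) hw'
    simp only [MulMemClass.coe_mul] at this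
    rw [← this, mul_comm]
  have hϖMlt : W₂.valuation (algebraMap K₂ M₂ (ϖV : K₂)) < 1 :=
    (AbhyankarCore.valuation_comap_lt_one_iff W₂ (algebraMap K₂ M₂) _).mp hϖVlt
  have hϖMgen : ∀ w : M₂, W₂.valuation w < 1 →
      ∃ w' ∈ W₂, w = algebraMap K₂ M₂ (ϖV : K₂) * w' := by
    intro w hw
    have hwmem : w ∈ W₂ := (W₂.valuation_le_one_iff w).mp hw.le
    have h1 : (⟨w, hwmem⟩ : W₂) ∈ maximalIdeal W₂ :=
      (ValuationSubring.valuation_lt_one_iff _ _).mpr hw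
    letI : Algebra (W₂.comap (algebraMap K₂ M₂)) W₂ :=
      (inclOfComap W₂ (algebraMap K₂ M₂)).toAlgebra
    have hwu : (maximalIdeal (W₂.comap (algebraMap K₂ M₂))).map
        (algebraMap (W₂.comap (algebraMap K₂ M₂)) W₂) = maximalIdeal W₂ := hsol.1
    rw [← hwu, hϖV.maximalIdeal_eq, Ideal.map_span, Set.image_singleton,
      Ideal.mem_span_singleton'] at h1
    obtain ⟨w', hw'⟩ := h1
    refine ⟨w', w'.2, ?_⟩
    have := congrArg (fun v : W₂ => (v : M₂)) hw'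
    simp only [MulMemClass.coe_mul] at this
    rw [← this, mul_comm]
    rfl
  -- apply the comparison at both levels
  obtain ⟨k1, k2, k3, k4⟩ := image_spec p (W₁.comap (algebraMap K₁ M₁)) π a haK z y n θK
    (W₂.comap (algebraMap K₂ M₂)) t (W₃.comap (algebraMap K₃ M₃)) hp hπ0 hπK hz hy hθKz hV₂
    hboundK hn hV₃ hspanK (ϖV : K₂) hϖVlt hϖVgen
  obtain ⟨m1, m2, m3, m4⟩ := image_spec p W₁ (algebraMap K₁ M₁ π) (algebraMap K₁ M₁ a) ha
    (algebraMap K₂ M₂ z) (algebraMap K₃ M₃ y) n θM W₂ t W₃ hp hπM0 hπ hzM hyM hθMz hW₂ hbound hn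
    hW₃ hspanM (algebraMap K₂ M₂ (ϖV : K₂)) hϖMlt hϖMgen
  obtain ⟨eK, heK⟩ := exists_residue_equiv p (W₁.comap (algebraMap K₁ M₁)) π a haK z y n θK
    (W₂.comap (algebraMap K₂ M₂)) t (W₃.comap (algebraMap K₃ M₃)) hp hπ0 hπK hz hy hθKz hV₂
    hboundK hn hV₃ hspanK (ϖV : K₂) hϖVlt hϖVgen
  obtain ⟨eM, heM⟩ := exists_residue_equiv p W₁ (algebraMap K₁ M₁ π) (algebraMap K₁ M₁ a) ha
    (algebraMap K₂ M₂ z) (algebraMap K₃ M₃ y) n θM W₂ t W₃ hp hπM0 hπ hzM hyM hθMz hW₂ hbound hn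
    hW₃ hspanM (algebraMap K₂ M₂ (ϖV : K₂)) hϖMlt hϖMgen
  constructor
  · -- weakly unramified
    letI algV₃W₃ : Algebra (W₃.comap (algebraMap K₃ M₃)) W₃ :=
      (inclOfComap W₃ (algebraMap K₃ M₃)).toAlgebra
    show (maximalIdeal (W₃.comap (algebraMap K₃ M₃))).map
      (algebraMap (W₃.comap (algebraMap K₃ M₃)) W₃) = maximalIdeal W₃
    apply le_antisymm
    · rw [Ideal.map_le_iff_le_comap]
      intro v hv
      have h1 := (ValuationSubring.valuation_lt_one_iff _ _).mp hv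
      show (inclOfComap W₃ (algebraMap K₃ M₃) v) ∈ maximalIdeal W₃
      rw [ValuationSubring.valuation_lt_one_iff]
      exact (AbhyankarCore.valuation_comap_lt_one_iff W₃ (algebraMap K₃ M₃) _).mp h1
    · intro x hx
      have hxlt := (ValuationSubring.valuation_lt_one_iff _ _).mp hx
      obtain ⟨x', hx', hxx'⟩ := m4 (x : M₃) hxlt
      have hg : θK (ϖV : K₂) ∈ W₃.comap (algebraMap K₃ M₃) := k1 _ ϖV.2
      have hgm : (⟨θK (ϖV : K₂), hg⟩ : W₃.comap (algebraMap K₃ M₃)) ∈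
          maximalIdeal (W₃.comap (algebraMap K₃ M₃)) :=
        (ValuationSubring.valuation_lt_one_iff _ _).mpr k3
      have hx_eq : x = algebraMap (W₃.comap (algebraMap K₃ M₃)) W₃ ⟨θK (ϖV : K₂), hg⟩ *
          ⟨x', hx'⟩ := by
        apply Subtype.ext
        rw [hxx', hcompat]
        rfl
      rw [hx_eq]
      exact Ideal.mul_mem_right _ _ (Ideal.mem_map_of_mem _ hgm)
  · -- residue field extension
    letI algres₂ : Algebra (ResidueField (W₂.comap (algebraMap K₂ M₂))) (ResidueField W₂) :=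
      (IsLocalRing.ResidueField.map (inclOfComap W₂ (algebraMap K₂ M₂))).toAlgebra
    letI algres₃ : Algebra (ResidueField (W₃.comap (algebraMap K₃ M₃))) (ResidueField W₃) :=
      (IsLocalRing.ResidueField.map (inclOfComap W₃ (algebraMap K₃ M₃))).toAlgebra
    haveI : Algebra.IsGeometricallyReduced (ResidueField (W₂.comap (algebraMap K₂ M₂)))
      (ResidueField W₂) := hsol.2
    refine isGeometricallyReduced_of_ringEquiv eK eM ?_
    intro r
    obtain ⟨v, rfl⟩ := residue_surjective r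
    have hv1 : θK (v : K₂) ∈ W₃.comap (algebraMap K₃ M₃) := k1 _ v.2
    have hv2 : algebraMap K₂ M₂ (v : K₂) ∈ W₂ := v.2
    have hv3 : θM (algebraMap K₂ M₂ (v : K₂)) ∈ W₃ := m1 _ hv2
    show eM (residue W₂ ⟨algebraMap K₂ M₂ (v : K₂), hv2⟩) =
      IsLocalRing.ResidueField.map (inclOfComap W₃ (algebraMap K₃ M₃))
        (eK (residue (W₂.comap (algebraMap K₂ M₂)) v))
    rw [heM _ hv2 hv3, heK (v : K₂) v.2 hv1]
    show residue W₃ _ = residue W₃ _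
    congr 1
    exact Subtype.ext (hcompat _)

end Local

end Groth.Agent.Lib.Helper9.PISep
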