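import Mathlib
import Groth.Agent.Lib.Helper9.VNRKernel

/-!
# `a` is not a `p`-th power in a compositum with a geometrically reduced extension (helper9)

`L / K` geometrically reduced, `K ⊆ K₁ ⊆ K₂` finite, `z ∈ K₂ ∖ K₁` with `z^p = a ∈ K₁`.  Then in any
compositum `M₁` of `L` and `K₁` the element `a` is not a `p`-th power.
-/

universe u

open TensorProduct

namespace Groth.Agent.Lib.Helper9.PISep

/-- a quotient of a reduced Artinian ring is reduced. -/
theorem isReduced_of_surjective_of_artinian_reduced {R S : Type*} [CommRing R] [CommRing S]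
    [IsArtinianRing R] [IsReduced R] (Φ : R →+* S) (hΦ : Function.Surjective Φ) : IsReduced S := by
  constructor
  rintro s ⟨k, hk⟩
  obtain ⟨r, rfl⟩ := hΦ s
  obtain ⟨c, hc⟩ := VNRKernel.exists_eq_sq_mul_of_artinian_reduced r
  have key : ∀ m : ℕ, r = r ^ (m + 1) * c ^ m := by
    intro m
    induction m with
    | zero => simp
    | succ m ih =>
      calc r = r ^ 2 * c := hc
        _ = r * r * c := by ring
        _ = r * (r ^ (m + 1) * c ^ m) * c := by rw [← ih]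
        _ = r ^ (m + 1 + 1) * c ^ (m + 1) := by ring
  have h1 := key k
  have h2 : Φ r = Φ r ^ (k + 1) * Φ c ^ k := by
    conv_lhs => rw [h1]
    rw [map_mul, map_pow, map_pow]
  rw [h2, pow_succ, hk, zero_mul, zero_mul]

set_option maxHeartbeats 2000000 in
set_option synthInstance.maxHeartbeats 100000 in
theorem not_pth_power (K L K₁ K₂ M₁ : Type u) [Field K] [Field L] [Field K₁] [Field K₂] [Field M₁]
    [Algebra K L] [Algebra K K₁] [Algebra K K₂] [Algebra K₁ K₂] [IsScalarTower K K₁ K₂]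
    [FiniteDimensional K K₂] [Algebra.IsGeometricallyReduced K L]
    [Algebra K M₁] [Algebra L M₁] [Algebra K₁ M₁] [IsScalarTower K L M₁] [IsScalarTower K K₁ M₁]
    (hgen : Algebra.adjoin L (Set.range (algebraMap K₁ M₁)) = ⊤)
    (p : ℕ) [CharP K p] (hp : p.Prime) (z : K₂) (a : K₁) (hz : z ^ p = algebraMap K₁ K₂ a)
    (hzK₁ : z ∉ Set.range (algebraMap K₁ K₂)) (b : M₁) : b ^ p ≠ algebraMap K₁ M₁ a := by
  classical
  intro hb
  haveI : Fact p.Prime := ⟨hp⟩
  haveI : CharP M₁ p := charP_of_injective_algebraMap (algebraMap K M₁).injective p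
  -- the reduced Artinian ring `L ⊗[K] K₂`
  haveI : Algebra.IsAlgebraic K K₂ := Algebra.IsAlgebraic.of_finite K K₂
  haveI hred0 : IsReduced (K₂ ⊗[K] L) := inferInstance
  haveI hred : IsReduced (L ⊗[K] K₂) :=
    isReduced_of_injective (Algebra.TensorProduct.comm K L K₂).toAlgHom
      (Algebra.TensorProduct.comm K L K₂).injective
  haveI hart : IsArtinianRing (L ⊗[K] K₂) := IsArtinianRing.of_finite L _
  -- the target `M₁ ⊗[K₁] K₂`
  let f : L →+* M₁ ⊗[K₁] K₂ :=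
    (Algebra.TensorProduct.includeLeftRingHom : M₁ →+* M₁ ⊗[K₁] K₂).comp (algebraMap L M₁)
  letI algKS : Algebra K (M₁ ⊗[K₁] K₂) := (f.comp (algebraMap K L)).toAlgebra
  let fa : L →ₐ[K] M₁ ⊗[K₁] K₂ := { f with commutes' := fun _ => rfl }
  let ga : K₂ →ₐ[K] M₁ ⊗[K₁] K₂ :=
    { (Algebra.TensorProduct.includeRight : K₂ →ₐ[K₁] M₁ ⊗[K₁] K₂).toRingHom with
      commutes' := fun c => by
        show (1 : M₁) ⊗ₜ[K₁] (algebraMap K K₂ c) = (algebraMap L M₁ (algebraMap K L c)) ⊗ₜ[K₁] (1 : K₂)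
        rw [IsScalarTower.algebraMap_apply K K₁ K₂, ← IsScalarTower.algebraMap_apply K L M₁,
          IsScalarTower.algebraMap_apply K K₁ M₁, Algebra.algebraMap_eq_smul_one (algebraMap K K₁ c),
          Algebra.algebraMap_eq_smul_one (algebraMap K K₁ c), TensorProduct.smul_tmul] }
  let Φ : L ⊗[K] K₂ →ₐ[K] M₁ ⊗[K₁] K₂ := Algebra.TensorProduct.productMap fa ga
  have hΦl : ∀ l : L, Φ (l ⊗ₜ[K] (1 : K₂)) = (algebraMap L M₁ l) ⊗ₜ[K₁] (1 : K₂) := by
    intro l
    simp [Φ, fa, ga, f]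
  have hΦr : ∀ k : K₂, Φ ((1 : L) ⊗ₜ[K] k) = (1 : M₁) ⊗ₜ[K₁] k := by
    intro k
    simp [Φ, fa, ga, f]
  have hΦ : Function.Surjective Φ := by
    -- `m ⊗ 1` is in the range for all `m`
    have h1 : ∀ m : M₁, (m ⊗ₜ[K₁] (1 : K₂) : M₁ ⊗[K₁] K₂) ∈ Φ.range := by
      intro m
      have hm : m ∈ Algebra.adjoin L (Set.range (algebraMap K₁ M₁)) := hgen ▸ Algebra.mem_top
      induction hm using Algebra.adjoin_induction with
      | mem x hx =>
        obtain ⟨κ, rfl⟩ := hx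
        refine (AlgHom.mem_range Φ).mpr ⟨(1 : L) ⊗ₜ[K] (algebraMap K₁ K₂ κ), ?_⟩
        rw [hΦr, Algebra.algebraMap_eq_smul_one κ, Algebra.algebraMap_eq_smul_one κ,
          TensorProduct.smul_tmul]
      | algebraMap l => exact (AlgHom.mem_range Φ).mpr ⟨l ⊗ₜ[K] 1, hΦl l⟩
      | add x y _ _ hx hy =>
        rw [TensorProduct.add_tmul]
        exact Φ.range.add_mem hx hy
      | mul x y _ _ hx hy =>
        have : ((x * y) ⊗ₜ[K₁] (1 : K₂) : M₁ ⊗[K₁] K₂) =
            (x ⊗ₜ[K₁] (1 : K₂)) * (y ⊗ₜ[K₁] (1 : K₂)) := by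
          rw [Algebra.TensorProduct.tmul_mul_tmul, mul_one]
        rw [this]
        exact Φ.range.mul_mem hx hy
    intro s
    induction s using TensorProduct.induction_on with
    | zero => exact ⟨0, map_zero _⟩
    | tmul m k =>
      have : (m ⊗ₜ[K₁] k : M₁ ⊗[K₁] K₂) = (m ⊗ₜ[K₁] (1 : K₂)) * ((1 : M₁) ⊗ₜ[K₁] k) := by
        rw [Algebra.TensorProduct.tmul_mul_tmul, mul_one, one_mul]
      rw [this]
      exact Φ.range.mul_mem (h1 m) ((AlgHom.mem_range Φ).mpr ⟨(1 : L) ⊗ₜ[K] k, hΦr k⟩)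
    | add x y hx hy =>
      obtain ⟨x', rfl⟩ := hx
      obtain ⟨y', rfl⟩ := hy
      exact ⟨x' + y', map_add _ _ _⟩
  haveI hredS : IsReduced (M₁ ⊗[K₁] K₂) :=
    isReduced_of_surjective_of_artinian_reduced Φ.toRingHom hΦ
  -- the nilpotent element
  haveI : CharP (M₁ ⊗[K₁] K₂) p :=
    charP_of_injective_algebraMap (algebraMap M₁ (M₁ ⊗[K₁] K₂)).injective p
  have hnil : ((1 : M₁) ⊗ₜ[K₁] z - b ⊗ₜ[K₁] (1 : K₂) : M₁ ⊗[K₁] K₂) ^ p = 0 := by
    rw [sub_pow_char, Algebra.TensorProduct.tmul_pow, Algebra.TensorProduct.tmul_pow, one_pow,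
      one_pow, hz, hb, Algebra.algebraMap_eq_smul_one a, Algebra.algebraMap_eq_smul_one a,
      TensorProduct.smul_tmul, sub_self]
  have hzero : ((1 : M₁) ⊗ₜ[K₁] z - b ⊗ₜ[K₁] (1 : K₂) : M₁ ⊗[K₁] K₂) = 0 :=
    IsNilpotent.eq_zero ⟨p, hnil⟩
  -- a functional separating `z` from `K₁`
  have hznot : z ∉ Submodule.span K₁ ({1} : Set K₂) := by
    intro h
    rw [Submodule.mem_span_singleton] at h
    obtain ⟨c, hc⟩ := h
    exact hzK₁ ⟨c, by rw [Algebra.algebraMap_eq_smul_one]; exact hc⟩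
  obtain ⟨lam, hlamz, hlam⟩ := Submodule.exists_dual_map_eq_bot_of_notMem hznot inferInstance
  have hlam1 : lam 1 = 0 := by
    have : lam 1 ∈ (Submodule.span K₁ ({1} : Set K₂)).map lam :=
      Submodule.mem_map_of_mem (Submodule.subset_span rfl)
    rw [hlam] at this
    exact this
  have h3 := congrArg (TensorProduct.rid K₁ M₁ ∘ (LinearMap.lTensor M₁ lam)) hzero
  simp only [Function.comp_apply, map_sub, LinearMap.lTensor_tmul, TensorProduct.rid_tmul, hlam1,
    zero_smul, sub_zero, map_zero] at h3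
  have h4 : lam z = 0 := by
    have : lam z • (1 : M₁) = 0 := h3
    rw [← Algebra.algebraMap_eq_smul_one, map_eq_zero] at this
    exact this
  exact hlamz h4

end Groth.Agent.Lib.Helper9.PISep
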