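import Mathlib
import Groth.Prelude.Def_EtRam
import Groth.Agent.Lib.Helper9.PISep.Bound

/-!
# Uniformity of the conductor bound over all composita (helper9)

The composita `M₁ = L K₁` are the residue fields of the Artinian ring `L ⊗[K] K₁`; there are
finitely many, so the bound of `bound_field` can be chosen uniformly.
-/

universe u

open Polynomial TensorProduct

namespace Groth.Agent.Lib.Helper9.PISep

/-- the bound property, phrased with ring homs. -/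
def BoundAt {B K₁ M₁ : Type*} [CommRing B] [CommRing K₁] [CommRing M₁] (fB : B →+* M₁)
    (fK : K₁ →+* M₁) (πB : B) (a : K₁) (p t : ℕ) : Prop :=
  ∀ c : Fin p → M₁, fB.IsIntegralElem (∑ i, c i ^ p * fK a ^ (i : ℕ)) →
    ∀ i, fB.IsIntegralElem (fB πB ^ t * c i)

section Basic

variable {B K₁ M₁ M₁' : Type*} [CommRing B] [CommRing K₁] [CommRing M₁] [CommRing M₁']
  {fB : B →+* M₁} {fK : K₁ →+* M₁} {πB : B} {a : K₁} {p t : ℕ}

theorem BoundAt.mono (h : BoundAt fB fK πB a p t) {t' : ℕ} (htt' : t ≤ t') :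
    BoundAt fB fK πB a p t' := by
  intro c hc i
  have h1 := h c hc i
  have h2 : fB πB ^ t' * c i = fB (πB ^ (t' - t)) * (fB πB ^ t * c i) := by
    rw [map_pow, ← mul_assoc, ← pow_add, Nat.sub_add_cancel htt']
  rw [h2]
  exact RingHom.IsIntegralElem.mul _ fB.isIntegralElem_map h1

theorem isIntegralElem_equiv_iff (e : M₁ ≃+* M₁') (f : B →+* M₁) (x : M₁) :
    ((e : M₁ →+* M₁').comp f).IsIntegralElem (e x) ↔ f.IsIntegralElem x := by
  constructor
  · rintro ⟨P, hP, h⟩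
    refine ⟨P, hP, ?_⟩
    have h1 : (e : M₁ →+* M₁') (P.eval₂ f x) = 0 := by
      rw [hom_eval₂]
      exact h
    exact (map_eq_zero_iff (e : M₁ →+* M₁') e.injective).mp h1
  · rintro ⟨P, hP, h⟩
    refine ⟨P, hP, ?_⟩
    have h1 : (e : M₁ →+* M₁') (P.eval₂ f x) = 0 := by rw [h, map_zero]
    rw [hom_eval₂] at h1
    exact h1

theorem BoundAt.of_equiv (h : BoundAt fB fK πB a p t) (e : M₁ ≃+* M₁') :
    BoundAt ((e : M₁ →+* M₁').comp fB) ((e : M₁ →+* M₁').comp fK) πB a p t := by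
  intro c' hc' i
  obtain ⟨c, hc⟩ : ∃ c : Fin p → M₁, c = fun i => e.symm (c' i) := ⟨_, rfl⟩
  have hcc' : ∀ i, c' i = e (c i) := fun i => by rw [hc]; simp
  have h1 : (∑ i, c' i ^ p * ((e : M₁ →+* M₁').comp fK) a ^ (i : ℕ)) =
      e (∑ i, c i ^ p * fK a ^ (i : ℕ)) := by
    rw [map_sum]
    refine Finset.sum_congr rfl fun i _ => ?_
    rw [hcc', map_mul, map_pow, map_pow]
    rfl
  rw [h1, isIntegralElem_equiv_iff] at hc'
  have h2 := h c hc' i
  have h3 : ((e : M₁ →+* M₁').comp fB) πB ^ t * c' i = e (fB πB ^ t * c i) := by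
    rw [hcc', map_mul, map_pow]
    rfl
  rw [h3, isIntegralElem_equiv_iff]
  exact h2

end Basic

section Field

variable (B K L K₁ M₁ : Type u) [CommRing B] [IsDomain B] [Field K] [Field L] [Field K₁]
  [Algebra B L] [IsFractionRing B L] [Field M₁] [Algebra L M₁] [Algebra K₁ M₁]
  [FiniteDimensional L M₁]

theorem boundAt_field (hB : CAlg.IsNagata B) (p : ℕ) (hp : p.Prime) [ExpChar L p]
    (a : K₁) (πB : B) (hπB : ∀ d : B, d ≠ 0 → ∃ k, d ∣ πB ^ k)
    (hnp : ∀ b : M₁, b ^ p ≠ algebraMap K₁ M₁ a) :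
    ∃ t : ℕ, BoundAt ((algebraMap L M₁).comp (algebraMap B L)) (algebraMap K₁ M₁) πB a p t := by
  letI : Algebra B M₁ := ((algebraMap L M₁).comp (algebraMap B L)).toAlgebra
  haveI : IsScalarTower B L M₁ := IsScalarTower.of_algebraMap_eq (fun _ => rfl)
  haveI : ExpChar M₁ p := expChar_of_injective_algebraMap (algebraMap L M₁).injective p
  obtain ⟨t, ht⟩ := bound_field L hB p hp (algebraMap K₁ M₁ a) hnp πB hπB
  exact ⟨t, fun c hc i => ht c hc i⟩

end Field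

section Uniform

set_option maxHeartbeats 1000000 in
set_option synthInstance.maxHeartbeats 100000 in
/-- **The uniform conductor bound.** -/
theorem exists_uniform_bound (B K L K₁ : Type u) [CommRing B] [IsDomain B] [Field K] [Field L]
    [Field K₁] [Algebra B L] [IsFractionRing B L] [Algebra K L] [Algebra K K₁]
    [FiniteDimensional K K₁]
    (hB : CAlg.IsNagata B) (p : ℕ) (hp : p.Prime) [ExpChar L p] (a : K₁) (πB : B)
    (hπB : ∀ d : B, d ≠ 0 → ∃ k, d ∣ πB ^ k)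
    (hnp : ∀ (M₁ : Type u) [Field M₁] [Algebra K M₁] [Algebra L M₁] [Algebra K₁ M₁]
      [IsScalarTower K L M₁] [IsScalarTower K K₁ M₁],
      Algebra.adjoin L (Set.range (algebraMap K₁ M₁)) = ⊤ →
        ∀ b : M₁, b ^ p ≠ algebraMap K₁ M₁ a) :
    ∃ t : ℕ, ∀ (M₁ : Type u) [Field M₁] [Algebra K M₁] [Algebra L M₁] [Algebra K₁ M₁]
      [IsScalarTower K L M₁] [IsScalarTower K K₁ M₁],
      Algebra.adjoin L (Set.range (algebraMap K₁ M₁)) = ⊤ →
      BoundAt ((algebraMap L M₁).comp (algebraMap B L)) (algebraMap K₁ M₁) πB a p t := by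
  classical
  haveI : IsArtinianRing (L ⊗[K] K₁) := IsArtinianRing.of_finite L _
  have hper : ∀ 𝔮 : PrimeSpectrum (L ⊗[K] K₁), ∃ t : ℕ,
      BoundAt ((Ideal.Quotient.mk 𝔮.asIdeal).comp
          ((algebraMap L (L ⊗[K] K₁)).comp (algebraMap B L)))
        ((Ideal.Quotient.mk 𝔮.asIdeal).comp
          (Algebra.TensorProduct.includeRight : K₁ →ₐ[K] L ⊗[K] K₁).toRingHom) πB a p t := by
    intro 𝔮
    haveI : 𝔮.asIdeal.IsMaximal := IsArtinianRing.isMaximal_of_isPrime 𝔮.asIdeal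
    letI : Field (L ⊗[K] K₁ ⧸ 𝔮.asIdeal) := Ideal.Quotient.field 𝔮.asIdeal
    letI algK₁ : Algebra K₁ (L ⊗[K] K₁ ⧸ 𝔮.asIdeal) :=
      ((Ideal.Quotient.mk 𝔮.asIdeal).comp
        (Algebra.TensorProduct.includeRight : K₁ →ₐ[K] L ⊗[K] K₁).toRingHom).toAlgebra
    haveI : IsScalarTower K K₁ (L ⊗[K] K₁ ⧸ 𝔮.asIdeal) :=
      IsScalarTower.of_algebraMap_eq (fun c => by
        show Ideal.Quotient.mk 𝔮.asIdeal (algebraMap K (L ⊗[K] K₁) c) =
          Ideal.Quotient.mk 𝔮.asIdeal ((1 : L) ⊗ₜ[K] (algebraMap K K₁ c))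
        congr 1
        rw [Algebra.TensorProduct.algebraMap_apply, Algebra.algebraMap_eq_smul_one,
          Algebra.algebraMap_eq_smul_one (A := K₁), TensorProduct.smul_tmul])
    have hgen : Algebra.adjoin L (Set.range (algebraMap K₁ (L ⊗[K] K₁ ⧸ 𝔮.asIdeal))) = ⊤ := by
      rw [eq_top_iff]
      rintro x -
      obtain ⟨x, rfl⟩ := Ideal.Quotient.mk_surjective x
      induction x using TensorProduct.induction_on with
      | zero => rw [map_zero]; exact Subalgebra.zero_mem _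
      | tmul l k =>
        have h1 : (l ⊗ₜ[K] k : L ⊗[K] K₁) = l • ((1 : L) ⊗ₜ[K] k) := by
          rw [TensorProduct.smul_tmul', smul_eq_mul, mul_one]
        rw [h1]
        have h2 : Ideal.Quotient.mk 𝔮.asIdeal (l • ((1 : L) ⊗ₜ[K] k)) =
            l • Ideal.Quotient.mk 𝔮.asIdeal ((1 : L) ⊗ₜ[K] k) := rfl
        rw [h2]
        exact Subalgebra.smul_mem _ (Algebra.subset_adjoin (Set.mem_range_self k)) l
      | add x y hx hy => rw [map_add]; exact Subalgebra.add_mem _ hx hy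
    exact boundAt_field B L K₁ (L ⊗[K] K₁ ⧸ 𝔮.asIdeal) hB p hp a πB hπB
      (hnp (L ⊗[K] K₁ ⧸ 𝔮.asIdeal) hgen)
  choose tq htq using hper
  haveI : Fintype (PrimeSpectrum (L ⊗[K] K₁)) := Fintype.ofFinite _
  refine ⟨Finset.univ.sup tq, ?_⟩
  intro M₁ _ _ _ _ _ _ hgen
  let ψ : L ⊗[K] K₁ →ₐ[L] M₁ :=
    Algebra.TensorProduct.productLeftAlgHom (Algebra.ofId L M₁) (IsScalarTower.toAlgHom K K₁ M₁)
  have hψr : ψ.range = ⊤ := by
    rw [eq_top_iff, ← hgen]
    apply Algebra.adjoin_le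
    rintro _ ⟨k, rfl⟩
    refine ⟨(1 : L) ⊗ₜ[K] k, ?_⟩
    simp [ψ]
  have hψ : Function.Surjective ψ.toRingHom := (AlgHom.range_eq_top ψ).mp hψr
  haveI hprime : (RingHom.ker ψ.toRingHom).IsPrime := RingHom.ker_isPrime _
  obtain ⟨𝔮, h𝔮⟩ : ∃ 𝔮 : PrimeSpectrum (L ⊗[K] K₁), 𝔮.asIdeal = RingHom.ker ψ.toRingHom :=
    ⟨⟨RingHom.ker ψ.toRingHom, hprime⟩, rfl⟩
  have h0 := (htq 𝔮).mono (Finset.le_sup (f := tq) (Finset.mem_univ 𝔮))
  obtain ⟨T, hT⟩ : ∃ T, T = Finset.univ.sup tq := ⟨_, rfl⟩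
  rw [← hT] at h0 ⊢
  clear hT htq
  obtain ⟨I, hI⟩ : ∃ I, I = 𝔮.asIdeal := ⟨_, rfl⟩
  rw [← hI] at h0 h𝔮
  subst h𝔮
  have h1 := h0.of_equiv (RingHom.quotientKerEquivOfSurjective hψ)
  have e1 : ((RingHom.quotientKerEquivOfSurjective hψ : _ ≃+* M₁) : _ →+* M₁).comp
      ((Ideal.Quotient.mk (RingHom.ker ψ.toRingHom)).comp
        ((algebraMap L (L ⊗[K] K₁)).comp (algebraMap B L))) =
      (algebraMap L M₁).comp (algebraMap B L) := by
    ext b
    show ψ (algebraMap L (L ⊗[K] K₁) (algebraMap B L b)) = _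
    rw [AlgHom.commutes]
    rfl
  have e2 : ((RingHom.quotientKerEquivOfSurjective hψ : _ ≃+* M₁) : _ →+* M₁).comp
      ((Ideal.Quotient.mk (RingHom.ker ψ.toRingHom)).comp
        (Algebra.TensorProduct.includeRight : K₁ →ₐ[K] L ⊗[K] K₁).toRingHom) =
      algebraMap K₁ M₁ := by
    ext k
    show ψ ((1 : L) ⊗ₜ[K] k) = _
    simp [ψ]
  rw [e1, e2] at h1
  exact h1

end Uniform

end Groth.Agent.Lib.Helper9.PISep
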