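import Mathlib
import Groth.Prelude.Def_EtRam
import Groth.Agent.Lib.Helper9.PISep.Local
import Groth.Agent.Lib.Helper9.PISep.NotPow
import Groth.Agent.Lib.Helper9.PISep.Assemble
import Groth.Agent.Lib.Helper9.PISep.Uniform
import Groth.Agent.Lib.Helper9.KADominates
import Groth.Agent.Lib.Helper9.AbhyankarCore

/-!
# The step for one local extension, abstract compositum `M₁` (helper9)
-/

universe u

open Polynomial IsLocalRing EtRam TensorProduct

namespace Groth.Agent.Lib.Helper9.PISep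

open Groth.Agent.Lib.Helper9

section Finite

/-- composita with a finite extension are finite. -/
theorem finite_of_adjoin_eq_top (K L K₁ M : Type u) [Field K] [Field L] [Field K₁] [Field M]
    [Algebra K L] [Algebra K K₁] [FiniteDimensional K K₁] [Algebra K M] [Algebra L M]
    [Algebra K₁ M] [IsScalarTower K L M] [IsScalarTower K K₁ M]
    (hgen : Algebra.adjoin L (Set.range (algebraMap K₁ M)) = ⊤) : Module.Finite L M := by
  let ψ : L ⊗[K] K₁ →ₐ[L] M :=
    Algebra.TensorProduct.productLeftAlgHom (Algebra.ofId L M) (IsScalarTower.toAlgHom K K₁ M)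
  have hψr : ψ.range = ⊤ := by
    rw [eq_top_iff, ← hgen]
    apply Algebra.adjoin_le
    rintro _ ⟨k, rfl⟩
    refine ⟨(1 : L) ⊗ₜ[K] k, ?_⟩
    simp [ψ]
  have hψ : Function.Surjective ψ := (AlgHom.range_eq_top ψ).mp hψr
  exact Module.Finite.of_surjective ψ.toLinearMap hψ

end Finite

section Step

variable (p : ℕ) (A B K L : Type u) [CommRing A] [IsDomain A] [IsDiscreteValuationRing A]
  [CommRing B] [IsDomain B] [IsDiscreteValuationRing B] [Algebra A B]
  [IsLocalHom (algebraMap A B)]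
  [Field K] [Field L] [Algebra A K] [IsFractionRing A K] [Algebra B L] [IsFractionRing B L]
  [Algebra K L] [Algebra A L] [IsScalarTower A K L] [IsScalarTower A B L] [CharP K p]
  [Algebra.IsGeometricallyReduced K L]
  (K₁ K₂ K₃ : Type u) [Field K₁] [Field K₂] [Field K₃] [Algebra K K₁] [Algebra K K₂]
  [Algebra K₁ K₂] [IsScalarTower K K₁ K₂] [FiniteDimensional K K₁] [FiniteDimensional K₁ K₂]
  [Algebra K K₃] [Algebra K₁ K₃] [IsScalarTower K K₁ K₃]
  (M₁ M₃ : Type u) [Field M₁] [Field M₃]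
  [Algebra K M₁] [Algebra L M₁] [Algebra K₁ M₁] [IsScalarTower K L M₁] [IsScalarTower K K₁ M₁]
  [Algebra K M₃] [Algebra L M₃] [Algebra K₃ M₃] [IsScalarTower K L M₃] [IsScalarTower K K₃ M₃]
  [Algebra M₁ M₃] [Algebra K₁ M₃] [IsScalarTower K₁ M₁ M₃] [IsScalarTower K₁ K₃ M₃]
  [IsScalarTower L M₁ M₃]

set_option maxHeartbeats 4000000 in
set_option synthInstance.maxHeartbeats 200000 in
/-- **The step for one local extension.** -/
theorem step_abstract (hp : p.Prime)
    (hsol : EtRam.IsSolution B K L K₂)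
    (z : K₂) (a : K₁) (hz : z ^ p = algebraMap K₁ K₂ a)
    (hzK₁ : z ∉ Set.range (algebraMap K₁ K₂))
    (bK : Module.Basis (Fin p) K₁ K₂) (hbK : ∀ i, bK i = z ^ (i : ℕ))
    (ϖ : A) (hϖ : Irreducible ϖ)
    (haint : ((algebraMap K K₁).comp (algebraMap A K)).IsIntegralElem a)
    (t n : ℕ) (hn : 2 * t + 2 ≤ n)
    (hbd : BoundAt ((algebraMap L M₁).comp (algebraMap B L)) (algebraMap K₁ M₁)
      (algebraMap A B ϖ) a p t)
    (y : K₃)
    (hy : y ^ p = algebraMap K₁ K₃ ((algebraMap K K₁ (algebraMap A K ϖ)) ^ n) * y +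
      algebraMap K₁ K₃ a)
    (hspanK : ∀ x : K₃, ∃ R : K₁[X], R.natDegree < p ∧ x = aeval y R)
    (hgen₁ : Algebra.adjoin L (Set.range (algebraMap K₁ M₁)) = ⊤)
    (hgen₃ : Algebra.adjoin L (Set.range (algebraMap K₃ M₃)) = ⊤)
    (W₃ : ValuationSubring M₃)
    (hdom₃ : Dominates B ((algebraMap L M₃).comp (algebraMap B L)) W₃) :
    (@IsWeaklyUnramified (W₃.comap (algebraMap K₃ M₃)) W₃ _ _ _ _
        (inclOfComap W₃ (algebraMap K₃ M₃)).toAlgebra) ∧
      @Algebra.IsGeometricallyReduced (ResidueField (W₃.comap (algebraMap K₃ M₃)))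
        (ResidueField W₃) _ _
        (IsLocalRing.ResidueField.map (inclOfComap W₃ (algebraMap K₃ M₃))).toAlgebra := by
  classical
  haveI : Fact p.Prime := ⟨hp⟩
  haveI : ExpChar K p := ExpChar.prime hp
  -- `π`
  obtain ⟨π, hπdef⟩ : ∃ π : K₁, π = algebraMap K K₁ (algebraMap A K ϖ) := ⟨_, rfl⟩
  rw [← hπdef] at hy
  have hπ0 : π ≠ 0 := by
    rw [hπdef]
    intro h
    have h1 : algebraMap A K ϖ = 0 := (algebraMap K K₁).injective (by rw [h, map_zero])
    exact hϖ.ne_zero (IsFractionRing.injective A K (by rw [h1, map_zero]))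
  -- algebra structures over `A` and `B`
  letI algAK₁ : Algebra A K₁ := ((algebraMap K K₁).comp (algebraMap A K)).toAlgebra
  haveI towAKK₁ : IsScalarTower A K K₁ := IsScalarTower.of_algebraMap_eq (fun _ => rfl)
  letI algAK₂ : Algebra A K₂ := ((algebraMap K K₂).comp (algebraMap A K)).toAlgebra
  haveI towAKK₂ : IsScalarTower A K K₂ := IsScalarTower.of_algebraMap_eq (fun _ => rfl)
  letI algBM₁ : Algebra B M₁ := ((algebraMap L M₁).comp (algebraMap B L)).toAlgebra
  haveI towBLM₁ : IsScalarTower B L M₁ := IsScalarTower.of_algebraMap_eq (fun _ => rfl)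
  haveI hfdM₁ : Module.Finite L M₁ := finite_of_adjoin_eq_top K L K₁ M₁ hgen₁
  haveI hfdK₂ : Module.Finite K K₂ := Module.Finite.trans K₁ K₂
  have hcomm₁ : ∀ x : A, algebraMap K₁ M₁ (algebraMap K K₁ (algebraMap A K x)) =
      algebraMap L M₁ (algebraMap B L (algebraMap A B x)) := by
    intro x
    rw [← IsScalarTower.algebraMap_apply K K₁ M₁, IsScalarTower.algebraMap_apply K L M₁,
      ← IsScalarTower.algebraMap_apply A K L, ← IsScalarTower.algebraMap_apply A B L]
  have hmaxAB : ∀ x : A, x ∈ maximalIdeal A → algebraMap A B x ∈ maximalIdeal B := by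
    intro x hx
    exact (mem_maximalIdeal _).mpr (fun hu =>
      ((mem_maximalIdeal _).mp hx) (isUnit_of_map_unit (algebraMap A B) x hu))
  -- `W₁`
  obtain ⟨W₁, hW₁⟩ : ∃ W₁ : ValuationSubring M₁, W₁ = W₃.comap (algebraMap M₁ M₃) := ⟨_, rfl⟩
  have hdom₁ : Dominates B (algebraMap B M₁) W₁ := by
    rw [hW₁]
    refine ⟨fun b => ?_, fun b hb => ?_⟩
    · show algebraMap M₁ M₃ (algebraMap L M₁ (algebraMap B L b)) ∈ W₃
      rw [← IsScalarTower.algebraMap_apply L M₁ M₃]
      exact hdom₃.1 b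
    · rw [AbhyankarCore.valuation_comap_lt_one_iff]
      show W₃.valuation (algebraMap M₁ M₃ (algebraMap L M₁ (algebraMap B L b))) < 1
      rw [← IsScalarTower.algebraMap_apply L M₁ M₃]
      exact hdom₃.2 b hb
  haveI hdvrW₁ : IsDiscreteValuationRing W₁ :=
    KADominates.isDiscreteValuationRing_of_dominates_finite B L W₁ hdom₁
  have hdomV₁ : Dominates A (algebraMap A K₁) (W₁.comap (algebraMap K₁ M₁)) := by
    refine ⟨fun x => ?_, fun x hx => ?_⟩
    · show algebraMap K₁ M₁ (algebraMap K K₁ (algebraMap A K x)) ∈ W₁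
      rw [hcomm₁]
      exact hdom₁.1 _
    · rw [AbhyankarCore.valuation_comap_lt_one_iff]
      show W₁.valuation (algebraMap K₁ M₁ (algebraMap K K₁ (algebraMap A K x))) < 1
      rw [hcomm₁]
      exact hdom₁.2 _ (hmaxAB x hx)
  haveI hdvrV₁ : IsDiscreteValuationRing (W₁.comap (algebraMap K₁ M₁)) :=
    KADominates.isDiscreteValuationRing_of_dominates_finite A K _ hdomV₁
  -- `a₁` is not a `p`-th power
  obtain ⟨a₁, ha₁⟩ : ∃ a₁ : M₁, a₁ = algebraMap K₁ M₁ a := ⟨_, rfl⟩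
  have hnp : ∀ b : M₁, b ^ p ≠ a₁ := fun b =>
    ha₁ ▸ not_pth_power K L K₁ K₂ M₁ hgen₁ p hp z a hz hzK₁ b
  obtain ⟨f, hf⟩ : ∃ f : M₁[X], f = X ^ p - C a₁ := ⟨_, rfl⟩
  have hirr : Irreducible f := hf ▸ X_pow_sub_C_irreducible_of_prime hp hnp
  have hmonic : f.Monic := hf ▸ monic_X_pow_sub_C a₁ hp.ne_zero
  have hdegf : f.natDegree = p := hf ▸ natDegree_X_pow_sub_C
  haveI : Fact (Irreducible f) := ⟨hirr⟩
  have hroot : AdjoinRoot.root f ^ p = algebraMap M₁ (AdjoinRoot f) a₁ := by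
    have h1 : aeval (AdjoinRoot.root f) f = 0 := AdjoinRoot.aeval_eq f ▸ AdjoinRoot.mk_self
    have h2 : aeval (AdjoinRoot.root f) (X ^ p - C a₁) = 0 := by rw [← hf]; exact h1
    rw [map_sub, map_pow, aeval_X, aeval_C, sub_eq_zero] at h2
    exact h2
  obtain ⟨bM, hbM⟩ : ∃ b : Module.Basis (Fin p) M₁ (AdjoinRoot f),
      ∀ i, b i = AdjoinRoot.root f ^ (i : ℕ) := by
    refine ⟨(AdjoinRoot.powerBasis' hmonic).basis.reindex (finCongr hdegf), fun i => ?_⟩
    rw [Module.Basis.reindex_apply, PowerBasis.basis_eq_pow]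
    rfl
  -- the minimal polynomial of `z`
  have hnpK : ∀ b : K₁, b ^ p ≠ a := by
    intro b hb
    apply hzK₁
    refine ⟨b, ?_⟩
    haveI : CharP K₂ p := charP_of_injective_algebraMap (algebraMap K K₂).injective p
    have h1 : (z - algebraMap K₁ K₂ b) ^ p = 0 := by
      rw [sub_pow_char, hz, ← map_pow, hb, sub_self]
    exact (sub_eq_zero.mp ((pow_eq_zero_iff hp.ne_zero).mp h1)).symm
  have hminpoly : minpoly K₁ z = X ^ p - C a := by
    symm
    apply minpoly.eq_of_irreducible_of_monic (X_pow_sub_C_irreducible_of_prime hp hnpK) _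
      (monic_X_pow_sub_C a hp.ne_zero)
    rw [map_sub, map_pow, aeval_X, aeval_C, hz, sub_self]
  -- `K₂ → M₂`
  have hroot' : aeval (AdjoinRoot.root f) (minpoly K₁ z) = 0 := by
    rw [hminpoly, map_sub, map_pow, aeval_X, aeval_C, hroot, ha₁, sub_eq_zero]
    exact (IsScalarTower.algebraMap_apply K₁ M₁ (AdjoinRoot f) a).symm
  obtain ⟨φ₂, hφ₂⟩ : ∃ φ₂ : K₂ →ₐ[K₁] AdjoinRoot f, φ₂ z = AdjoinRoot.root f :=
    ⟨(⟨z, p, bK, hbK⟩ : PowerBasis K₁ K₂).lift (AdjoinRoot.root f) hroot',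
      (⟨z, p, bK, hbK⟩ : PowerBasis K₁ K₂).lift_gen _ _⟩
  letI algK₂M₂ : Algebra K₂ (AdjoinRoot f) := φ₂.toRingHom.toAlgebra
  haveI towK₁K₂M₂ : IsScalarTower K₁ K₂ (AdjoinRoot f) :=
    IsScalarTower.of_algebraMap_eq (fun c => (φ₂.commutes c).symm)
  haveI towKK₂M₂ : IsScalarTower K K₂ (AdjoinRoot f) :=
    IsScalarTower.of_algebraMap_eq (fun c => by
      show algebraMap K (AdjoinRoot f) c = φ₂ (algebraMap K K₂ c)
      rw [IsScalarTower.algebraMap_apply K K₁ K₂, φ₂.commutes,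
        ← IsScalarTower.algebraMap_apply K K₁ (AdjoinRoot f)])
  have hzroot : algebraMap K₂ (AdjoinRoot f) z = AdjoinRoot.root f := hφ₂
  have hbM' : ∀ i, bM i = (algebraMap K₂ (AdjoinRoot f) z) ^ (i : ℕ) := fun i => by
    rw [hbM, hzroot]
  -- `W₂`
  obtain ⟨W₂, hW₂⟩ := AbhyankarCore.exists_extension W₁ (algebraMap M₁ (AdjoinRoot f))
  have hdom₂ : Dominates B ((algebraMap L (AdjoinRoot f)).comp (algebraMap B L)) W₂ := by
    refine ⟨fun b => ?_, fun b hb => ?_⟩
    · show algebraMap L (AdjoinRoot f) (algebraMap B L b) ∈ W₂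
      rw [IsScalarTower.algebraMap_apply L M₁ (AdjoinRoot f)]
      have h1 : algebraMap L M₁ (algebraMap B L b) ∈ W₂.comap (algebraMap M₁ (AdjoinRoot f)) := by
        rw [hW₂]; exact hdom₁.1 b
      exact h1
    · show W₂.valuation (algebraMap L (AdjoinRoot f) (algebraMap B L b)) < 1
      rw [IsScalarTower.algebraMap_apply L M₁ (AdjoinRoot f),
        ← AbhyankarCore.valuation_comap_lt_one_iff]
      have h2 := hdom₁.2 b hb
      rw [← hW₂] at h2
      exact h2
  have hgen₂ : Algebra.adjoin L (Set.range (algebraMap K₂ (AdjoinRoot f))) = ⊤ :=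
    hgen₂_of_gen (L := L) hgen₁ z (by rw [hzroot]; exact AdjoinRoot.adjoinRoot_eq_top)
  have hsol₂ := hsol (AdjoinRoot f) hgen₂ W₂ hdom₂
  -- `V₂` is a DVR
  have hdomV₂ : Dominates A (algebraMap A K₂) (W₂.comap (algebraMap K₂ (AdjoinRoot f))) := by
    have hcomm₂ : ∀ x : A, algebraMap K₂ (AdjoinRoot f) (algebraMap K K₂ (algebraMap A K x)) =
        algebraMap L (AdjoinRoot f) (algebraMap B L (algebraMap A B x)) := by
      intro x
      rw [← IsScalarTower.algebraMap_apply K K₂ (AdjoinRoot f),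
        IsScalarTower.algebraMap_apply K L (AdjoinRoot f),
        ← IsScalarTower.algebraMap_apply A K L, ← IsScalarTower.algebraMap_apply A B L]
    refine ⟨fun x => ?_, fun x hx => ?_⟩
    · show algebraMap K₂ (AdjoinRoot f) (algebraMap K K₂ (algebraMap A K x)) ∈ W₂
      rw [hcomm₂]
      exact hdom₂.1 _
    · rw [AbhyankarCore.valuation_comap_lt_one_iff]
      show W₂.valuation (algebraMap K₂ (AdjoinRoot f) (algebraMap K K₂ (algebraMap A K x))) < 1
      rw [hcomm₂]
      exact hdom₂.2 _ (hmaxAB x hx)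
  haveI hdvrV₂ : IsDiscreteValuationRing (W₂.comap (algebraMap K₂ (AdjoinRoot f))) :=
    KADominates.isDiscreteValuationRing_of_dominates_finite A K _ hdomV₂
  -- the conductor bound
  haveI : ExpChar (AdjoinRoot f) p :=
    expChar_of_injective_algebraMap (algebraMap K (AdjoinRoot f)).injective p
  haveI : Algebra.IsAlgebraic B L := IsLocalization.isAlgebraic L (nonZeroDivisors B)
  have halgB : Algebra.IsAlgebraic B M₁ := Algebra.IsAlgebraic.trans B L M₁
  have hinjB : Function.Injective (algebraMap B M₁) :=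
    (algebraMap L M₁).injective.comp (IsFractionRing.injective B L)
  have hπ₁ : algebraMap K₁ M₁ π = algebraMap B M₁ (algebraMap A B ϖ) := by
    rw [hπdef, hcomm₁]
    rfl
  have hbound : ∀ w ∈ W₂, ∃ R : (↥W₁)[X], R.natDegree < p ∧
      algebraMap M₁ (AdjoinRoot f) ((algebraMap K₁ M₁ π) ^ t) * w =
        ev W₁ (algebraMap K₂ (AdjoinRoot f) z) R := by
    intro w hw
    rw [hzroot]
    refine hbound_of_bound p hp halgB hinjB W₁ hdom₁.1 hdom₁.2 W₂ hW₂ (AdjoinRoot.root f) a₁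
      (algebraMap K₁ M₁ π) hroot bM hbM t ?_ w hw
    intro c hc i
    rw [ha₁] at hc
    have h1 := hbd c hc i
    rw [hπ₁]
    exact h1
  -- remaining hypotheses of the local step
  have hπ : W₁.valuation (algebraMap K₁ M₁ π) < 1 := by
    rw [hπ₁]
    exact hdom₁.2 _ (hmaxAB ϖ ((mem_maximalIdeal _).mpr hϖ.not_isUnit))
  have ha : algebraMap K₁ M₁ a ∈ W₁ := by
    apply DVRExt.mem_of_isIntegral W₁ hdom₁.1
    obtain ⟨P, hPm, hP⟩ := haint
    refine ⟨P.map (algebraMap A B), hPm.map _, ?_⟩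
    rw [eval₂_map]
    have h1 : (algebraMap B M₁).comp (algebraMap A B) =
        (algebraMap K₁ M₁).comp ((algebraMap K K₁).comp (algebraMap A K)) :=
      RingHom.ext (fun x => (hcomm₁ x).symm)
    rw [h1, ← hom_eval₂, hP, map_zero]
  have hspanM : ∀ x : M₃, ∃ R : M₁[X], R.natDegree < p ∧
      x = aeval (algebraMap K₃ M₃ y) R :=
    hspanM_of_gen (L := L) p hp π a n y hy hspanK hgen₃
  exact local_step p hp.two_le π a z hz y n hy bK hbK bM hbM' hspanK hspanM W₁ hπ0 hπ ha W₂ hW₂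
    t hn hbound W₃ hW₁.symm hsol₂

end Step

end Groth.Agent.Lib.Helper9.PISep
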