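import Mathlib
import Groth.Prelude.Def_EtRam
import Groth.Agent.Lib.Helper9.PISep.Step
import Groth.Agent.Lib.Helper9.PISep.SepExt
import Groth.Agent.Lib.Helper9.PInsep.Basic
import Groth.Agent.Lib.Helper9.SepSol.Descent

/-!
# S7151: a purely inseparable degree `p` step can be replaced by a separable one (helper9)
-/

universe u

open Polynomial IsLocalRing EtRam TensorProduct

namespace Groth.Agent.Lib.Helper9.PISep

open Groth.Agent.Lib.Helper9

section Prep

/-- in a DVR, every nonzero element divides a power of any nonunit. -/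
theorem dvd_pow_of_mem_maximalIdeal {B : Type*} [CommRing B] [IsDomain B]
    [IsDiscreteValuationRing B] (x : B) (hx : x ∈ maximalIdeal B) (d : B) (hd : d ≠ 0) :
    ∃ k, d ∣ x ^ k := by
  obtain ⟨ϖ, hϖ⟩ := IsDiscreteValuationRing.exists_irreducible B
  obtain ⟨k, u, rfl⟩ := IsDiscreteValuationRing.eq_unit_mul_pow_irreducible hd hϖ
  rw [hϖ.maximalIdeal_eq, Ideal.mem_span_singleton] at hx
  obtain ⟨x', rfl⟩ := hx
  refine ⟨k, ⟨((u⁻¹ : Bˣ) : B) * x' ^ k, ?_⟩⟩
  rw [mul_pow]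
  calc ϖ ^ k * x' ^ k = ((u : B) * ((u⁻¹ : Bˣ) : B)) * (ϖ ^ k * x' ^ k) := by
        rw [Units.mul_inv, one_mul]
    _ = _ := by ring

/-- a purely inseparable extension of prime degree is generated by a `p`-th root, which can be
chosen with integral `p`-th power. -/
theorem exists_generator (p : ℕ) (hp : p.Prime) (A K K₁ K₂ : Type u) [CommRing A] [IsDomain A]
    [Field K] [Algebra A K] [IsFractionRing A K] [CharP K p]
    [Field K₁] [Field K₂] [Algebra K K₁] [Algebra K K₂] [Algebra K₁ K₂] [IsScalarTower K K₁ K₂]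
    [FiniteDimensional K K₁] [FiniteDimensional K₁ K₂] [IsPurelyInseparable K₁ K₂]
    (hdeg : Module.finrank K₁ K₂ = p) :
    ∃ (z : K₂) (a : K₁), z ^ p = algebraMap K₁ K₂ a ∧ z ∉ Set.range (algebraMap K₁ K₂) ∧
      ((algebraMap K K₁).comp (algebraMap A K)).IsIntegralElem a ∧
      ∃ bK : Module.Basis (Fin p) K₁ K₂, ∀ i, bK i = z ^ (i : ℕ) := by
  classical
  haveI : Fact p.Prime := ⟨hp⟩
  letI algAK₁ : Algebra A K₁ := ((algebraMap K K₁).comp (algebraMap A K)).toAlgebra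
  haveI towAKK₁ : IsScalarTower A K K₁ := IsScalarTower.of_algebraMap_eq (fun _ => rfl)
  have hex : ∃ z₀ : K₂, z₀ ∉ Set.range (algebraMap K₁ K₂) := by
    by_contra hcon
    push Not at hcon
    have hsurj : Function.Surjective (algebraMap K₁ K₂) := hcon
    have e : K₁ ≃ₗ[K₁] K₂ := LinearEquiv.ofBijective (Algebra.linearMap K₁ K₂)
      ⟨(algebraMap K₁ K₂).injective, hsurj⟩
    have h1 : Module.finrank K₁ K₂ = 1 := by rw [← e.finrank_eq, Module.finrank_self]
    rw [hdeg] at h1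
    exact hp.ne_one h1
  obtain ⟨z₀, hz₀⟩ := hex
  obtain ⟨a₀, ha₀⟩ := PInsep.pow_mem_range hp hdeg z₀
  haveI : Algebra.IsAlgebraic A K := IsLocalization.isAlgebraic K (nonZeroDivisors A)
  haveI : Algebra.IsAlgebraic A K₁ := Algebra.IsAlgebraic.trans A K K₁
  obtain ⟨d, hd0, hd⟩ := (Algebra.IsAlgebraic.isAlgebraic (R := A) a₀).exists_integral_multiple
  obtain ⟨d₁, hd₁⟩ : ∃ d₁ : K₁, d₁ = algebraMap A K₁ d := ⟨_, rfl⟩
  have hd₁0 : d₁ ≠ 0 := by
    rw [hd₁]
    intro h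
    have h1 : algebraMap A K d = 0 := (algebraMap K K₁).injective (by rw [map_zero]; exact h)
    exact hd0 (IsFractionRing.injective A K (by rw [h1, map_zero]))
  obtain ⟨z, hzdef⟩ : ∃ z : K₂, z = algebraMap K₁ K₂ d₁ * z₀ := ⟨_, rfl⟩
  obtain ⟨a, hadef⟩ : ∃ a : K₁, a = d₁ ^ p * a₀ := ⟨_, rfl⟩
  have hz : z ^ p = algebraMap K₁ K₂ a := by
    rw [hzdef, hadef, mul_pow, ← ha₀, map_mul, map_pow]
  have hzK₁ : z ∉ Set.range (algebraMap K₁ K₂) := by
    rintro ⟨k, hk⟩
    apply hz₀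
    refine ⟨d₁⁻¹ * k, ?_⟩
    rw [map_mul, hk, hzdef, ← mul_assoc, ← map_mul, inv_mul_cancel₀ hd₁0, map_one, one_mul]
  have haint : IsIntegral A a := by
    have h1 : a = d₁ ^ (p - 1) * (d • a₀) := by
      rw [hadef, Algebra.smul_def, ← hd₁, ← mul_assoc, ← pow_succ, Nat.sub_add_cancel hp.one_le]
    rw [h1]
    exact ((hd₁ ▸ isIntegral_algebraMap).pow _).mul hd
  refine ⟨z, a, hz, hzK₁, haint, ?_⟩
  -- the basis
  have hnpK : ∀ b : K₁, b ^ p ≠ a := by
    intro b hb
    apply hzK₁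
    refine ⟨b, ?_⟩
    haveI : CharP K₂ p := charP_of_injective_algebraMap (algebraMap K K₂).injective p
    have h1 : (z - algebraMap K₁ K₂ b) ^ p = 0 := by
      rw [sub_pow_char, hz, ← map_pow, hb, sub_self]
    exact (sub_eq_zero.mp ((pow_eq_zero_iff hp.ne_zero).mp h1)).symm
  have hminpoly : minpoly K₁ z = X ^ p - C a := by
    symm
    apply minpoly.eq_of_irreducible_of_monic (X_pow_sub_C_irreducible_of_prime hp hnpK) _
      (monic_X_pow_sub_C a hp.ne_zero)
    rw [map_sub, map_pow, aeval_X, aeval_C, hz, sub_self]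
  have hnat : (minpoly K₁ z).natDegree = p := by
    rw [hminpoly, natDegree_X_pow_sub_C]
  have hli : LinearIndependent K₁ (fun i : Fin p => z ^ (i : ℕ)) := by
    have h1 := (linearIndependent_pow (K := K₁) z).comp (Fin.cast hnat.symm)
      (Fin.cast_injective _)
    exact h1
  haveI : Nonempty (Fin p) := ⟨⟨0, hp.pos⟩⟩
  refine ⟨basisOfLinearIndependentOfCardEqFinrank hli (by rw [Fintype.card_fin, hdeg]),
    fun i => ?_⟩
  rw [coe_basisOfLinearIndependentOfCardEqFinrank]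

end Prep

section Main

set_option maxHeartbeats 4000000 in
set_option synthInstance.maxHeartbeats 200000 in
/-- **S7151.** -/
theorem final (p : ℕ) (hp : p.Prime) (A B K L : Type u)
    [CommRing A] [IsDomain A] [IsDiscreteValuationRing A] [CommRing B] [IsDomain B]
    [IsDiscreteValuationRing B]
    [Algebra A B] (hinj : Function.Injective (algebraMap A B)) [IsLocalHom (algebraMap A B)]
    [Field K] [Field L] [Algebra A K] [IsFractionRing A K] [Algebra B L] [IsFractionRing B L]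
    [Algebra K L] [Algebra A L] [IsScalarTower A K L] [IsScalarTower A B L] [CharP K p]
    [Algebra.IsGeometricallyReduced K L] (hB : CAlg.IsNagata B)
    (K₁ K₂ : Type u) [Field K₁] [Field K₂] [Algebra K K₁] [Algebra K K₂] [Algebra K₁ K₂]
    [IsScalarTower K K₁ K₂]
    [FiniteDimensional K K₁] [FiniteDimensional K₁ K₂] (hsol : EtRam.IsSolution B K L K₂)
    [IsPurelyInseparable K₁ K₂] (hdeg : Module.finrank K₁ K₂ = p) :
    ∃ (K₃ : Type u) (_ : Field K₃) (_ : Algebra K K₃) (_ : Algebra K₁ K₃)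
      (_ : IsScalarTower K K₁ K₃),
      FiniteDimensional K₁ K₃ ∧ Algebra.IsSeparable K₁ K₃ ∧ EtRam.IsSolution B K L K₃ := by
  classical
  haveI : Fact p.Prime := ⟨hp⟩
  haveI : ExpChar K p := ExpChar.prime hp
  haveI : ExpChar L p := expChar_of_injective_algebraMap (algebraMap K L).injective p
  haveI : CharP K₁ p := charP_of_injective_algebraMap (algebraMap K K₁).injective p
  haveI hfdK₂ : Module.Finite K K₂ := Module.Finite.trans K₁ K₂
  obtain ⟨z, a, hz, hzK₁, haint, bK, hbK⟩ := exists_generator p hp A K K₁ K₂ hdeg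
  obtain ⟨ϖ, hϖ⟩ := IsDiscreteValuationRing.exists_irreducible A
  have hϖB : algebraMap A B ϖ ∈ maximalIdeal B :=
    (mem_maximalIdeal _).mpr (fun hu => hϖ.not_isUnit (isUnit_of_map_unit (algebraMap A B) ϖ hu))
  obtain ⟨t, ht⟩ := exists_uniform_bound B K L K₁ hB p hp a (algebraMap A B ϖ)
    (dvd_pow_of_mem_maximalIdeal _ hϖB)
    (fun M₁ _ _ _ _ _ _ hgen b => not_pth_power K L K₁ K₂ M₁ hgen p hp z a hz hzK₁ b)
  have hπ0 : algebraMap K K₁ (algebraMap A K ϖ) ≠ 0 := by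
    intro h
    have h1 : algebraMap A K ϖ = 0 := (algebraMap K K₁).injective (by rw [h, map_zero])
    exact hϖ.ne_zero (IsFractionRing.injective A K (by rw [h1, map_zero]))
  obtain ⟨K₃, fK₃, algK₁K₃, y, hfd, hsep, hy, hspanK⟩ :=
    exists_sep_ext hp K₁ (algebraMap K K₁ (algebraMap A K ϖ)) a hπ0 (2 * t + 2)
  letI := fK₃
  letI := algK₁K₃
  letI algKK₃ : Algebra K K₃ := ((algebraMap K₁ K₃).comp (algebraMap K K₁)).toAlgebra
  haveI tow : IsScalarTower K K₁ K₃ := IsScalarTower.of_algebraMap_eq (fun _ => rfl)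
  refine ⟨K₃, fK₃, algKK₃, algK₁K₃, tow, hfd, hsep, ?_⟩
  intro M₃ _ _ _ _ _ _ hgen₃ W₃ hdom₃
  letI algK₁M₃ : Algebra K₁ M₃ := ((algebraMap K₃ M₃).comp (algebraMap K₁ K₃)).toAlgebra
  haveI towK₁K₃M₃ : IsScalarTower K₁ K₃ M₃ := IsScalarTower.of_algebraMap_eq (fun _ => rfl)
  haveI towKK₁M₃ : IsScalarTower K K₁ M₃ := IsScalarTower.of_algebraMap_eq (fun c => by
    show algebraMap K M₃ c = algebraMap K₃ M₃ (algebraMap K₁ K₃ (algebraMap K K₁ c))
    rw [← IsScalarTower.algebraMap_apply K K₁ K₃, ← IsScalarTower.algebraMap_apply K K₃ M₃])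
  obtain ⟨N, hNdef⟩ : ∃ N : Subfield M₃, N = Subfield.closure
      (Set.range (algebraMap L M₃) ∪ Set.range (algebraMap K₁ M₃)) := ⟨_, rfl⟩
  have hLN : ∀ x, algebraMap L M₃ x ∈ N := fun x => by
    rw [hNdef]; exact Subfield.subset_closure (Or.inl ⟨x, rfl⟩)
  have hK₁N : ∀ x, algebraMap K₁ M₃ x ∈ N := fun x => by
    rw [hNdef]; exact Subfield.subset_closure (Or.inr ⟨x, rfl⟩)
  letI algLN : Algebra L N := ((algebraMap L M₃).codRestrict N hLN).toAlgebra
  letI algK₁N : Algebra K₁ N := ((algebraMap K₁ M₃).codRestrict N hK₁N).toAlgebra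
  letI algKN : Algebra K N := ((algebraMap L N).comp (algebraMap K L)).toAlgebra
  haveI towKLN : IsScalarTower K L N := IsScalarTower.of_algebraMap_eq (fun _ => rfl)
  have hcompat : ∀ c : K, algebraMap L M₃ (algebraMap K L c) =
      algebraMap K₁ M₃ (algebraMap K K₁ c) := fun c => by
    rw [← IsScalarTower.algebraMap_apply K L M₃, ← IsScalarTower.algebraMap_apply K K₁ M₃]
  haveI towKK₁N : IsScalarTower K K₁ N :=
    IsScalarTower.of_algebraMap_eq (fun c => Subtype.ext (hcompat c))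
  haveI : Algebra.IsAlgebraic K K₁ := Algebra.IsAlgebraic.of_finite K K₁
  have hgenN : Algebra.adjoin L (Set.range (algebraMap K₁ N)) = ⊤ :=
    SepSol.Descent.adjoin_eq_top_of_closure (algebraMap L M₃) (algebraMap K₁ M₃) hcompat N hNdef
      hLN hK₁N
  haveI towK₁NM₃ : IsScalarTower K₁ N M₃ := IsScalarTower.of_algebraMap_eq (fun _ => rfl)
  haveI towLNM₃ : IsScalarTower L N M₃ := IsScalarTower.of_algebraMap_eq (fun _ => rfl)
  exact step_abstract p A B K L K₁ K₂ K₃ N M₃ hp hsol z a hz hzK₁ bK hbK ϖ hϖ haint t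
    (2 * t + 2) le_rfl (ht N hgenN) y hy hspanK hgenN hgen₃ W₃ hdom₃

end Main

end Groth.Agent.Lib.Helper9.PISep
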